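import Mathlib.Tactic
import Mathlib.FieldTheory.Finite.Basic

/-!
# Arithmetic for the odd unitary rank one hypotheses
-/

set_option autoImplicit false

namespace CfsgLib.U3BN

/-- `p ^ a + 1` divides `p ^ b + 1` only for an odd multiple `b` of `a`. -/
theorem exists_odd_mul {p : ℕ} (hp : 3 ≤ p) {a : ℕ} (ha : 1 ≤ a) : ∀ b : ℕ, p ^ a + 1 ∣ p ^ b + 1 →
    ∃ j : ℕ, b = (2 * j + 1) * a := by
  intro b
  induction b using Nat.strong_induction_on with
  | _ b ih =>
    intro h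
    rcases lt_or_ge b (2 * a) with hb | hb
    · rcases lt_trichotomy b a with hlt | rfl | hgt
      · have h1 : p ^ b < p ^ a := Nat.pow_lt_pow_right (by omega) hlt
        have h2 := Nat.le_of_dvd (by positivity) h
        omega
      · exact ⟨0, by ring⟩
      · exfalso
        obtain ⟨c, rfl⟩ := Nat.exists_eq_add_of_le hgt.le
        have h1 : 1 < p ^ c := Nat.one_lt_pow (by omega) (by omega)
        have h2 : p ^ c < p ^ a := Nat.pow_lt_pow_right (by omega) (by omega)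
        have h3 : p ^ a + 1 ∣ p ^ c * (p ^ a + 1) := dvd_mul_left _ _
        have e : p ^ c * (p ^ a + 1) = (p ^ (a + c) + 1) + (p ^ c - 1) := by
          rw [pow_add, mul_add, mul_one, mul_comm (p ^ c)]; omega
        rw [e] at h3
        have := Nat.le_of_dvd (by omega) ((Nat.dvd_add_right h).mp h3)
        omega
    · obtain ⟨c, rfl⟩ := Nat.exists_eq_add_of_le hb
      have h3 : p ^ a + 1 ∣ (p ^ a + 1) * (p ^ c * (p ^ a - 1)) + (p ^ c + 1) := by
        have e : (p ^ a + 1) * (p ^ c * (p ^ a - 1)) + (p ^ c + 1) = p ^ (2 * a + c) + 1 := by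
          have h1 : 1 ≤ p ^ a := Nat.one_le_pow _ _ (by omega)
          obtain ⟨u, hu⟩ := Nat.exists_eq_add_of_le h1
          rw [two_mul, pow_add, pow_add, hu, Nat.add_sub_cancel_left]
          ring
        rwa [e]
      obtain ⟨j, hj⟩ := ih c (by omega) ((Nat.dvd_add_right (dvd_mul_right _ _)).mp h3)
      exact ⟨j + 1, by rw [hj]; ring⟩

/-- The primitive divisors of `p ^ (2 n) - 1` and the congruences used. -/
theorem prim_dvd_sub {p n r : ℕ} (hr : r.Prime) (hrp : ¬ r ∣ p)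
    (hprim : ∀ i, 1 ≤ i → i < 2 * n → ¬ r ∣ p ^ i - 1) {b a : ℕ} (hab : a ≤ b)
    (h : p ^ b ≡ p ^ a [MOD r]) : b = a ∨ 2 * n ≤ b - a := by
  by_contra hcon
  push Not at hcon
  obtain ⟨hne, hlt⟩ := hcon
  refine hprim (b - a) (by omega) hlt ?_
  have hd := (Nat.modEq_iff_dvd' (Nat.pow_le_pow_right (Nat.pos_of_ne_zero fun e : p = 0 => hrp (by simp [e])) hab)).mp
    h.symm
  have e : p ^ b - p ^ a = p ^ a * (p ^ (b - a) - 1) := by
    rw [Nat.mul_sub, mul_one, ← pow_add, Nat.add_sub_cancel' hab]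
  rw [e] at hd
  exact (hr.dvd_mul.mp hd).resolve_left fun h' => hrp (hr.dvd_of_dvd_pow h')

theorem prim_le {p n r : ℕ} (hn : 1 ≤ n) (hr : r.Prime) (hr2 : r ≠ 2)
    (hprim : ∀ i, 1 ≤ i → i < 2 * n → ¬ r ∣ p ^ i - 1) {b : ℕ} (h : r ∣ p ^ b + 1) : n ≤ b := by
  by_contra hb
  rcases Nat.eq_zero_or_pos b with rfl | hb0
  · norm_num at h
    exact hr2 ((Nat.prime_dvd_prime_iff_eq hr Nat.prime_two).mp h)
  · refine hprim (2 * b) (by omega) (by omega) (dvd_trans h ⟨p ^ b - 1, ?_⟩)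
    rw [mul_comm 2 b, pow_mul, ← Nat.sq_sub_sq, one_pow]

end CfsgLib.U3BN
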