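import Cfsg.Agent.Lib.U3BN.Arith
import Mathlib.GroupTheory.GroupAction.MultipleTransitivity
import Mathlib.GroupTheory.SpecificGroups.Cyclic
import Mathlib.GroupTheory.Perm.Cycle.Type

/-!
# Split doubly transitive groups of odd unitary type: the set-up and fixed points

Blueprint: `blueprint/S1148.md`.
-/

set_option autoImplicit false
set_option linter.unusedSectionVars false

namespace CfsgLib.U3BN

open MulAction

universe u v

/-- The set-up. -/
structure Hyp (G : Type u) (Ω : Type v) [Group G] [MulAction G Ω] (o z : Ω) (U H : Subgroup G) (p n : ℕ) :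
    Prop where
  prime : p.Prime
  p2 : p ≠ 2
  n1 : 1 ≤ n
  ne : o ≠ z
  two : IsMultiplyPretransitive G Ω 2
  faith : FaithfulSMul G Ω
  U_fix : ∀ u ∈ U, u • o = o
  mem_H : ∀ g, g ∈ H ↔ g • o = o ∧ g • z = z
  norm : ∀ g : G, g • o = o → ∀ u ∈ U, g * u * g⁻¹ ∈ U
  reg : ∀ x, x ≠ o → ∃ u ∈ U, u • z = x
  free : ∀ u ∈ U, u • z = z → u = 1
  cardU : Nat.card U = p ^ (3 * n)
  cardΩ : Nat.card Ω = p ^ (3 * n) + 1
  cyc : IsCyclic H
  cardH : Nat.gcd 3 (p ^ n + 1) * Nat.card H = p ^ (2 * n) - 1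

variable {G : Type u} {Ω : Type v} [Group G] [MulAction G Ω] {o z : Ω} {U H : Subgroup G} {p n : ℕ}

/-- The centraliser of an element in `U`. -/
def cu (U : Subgroup G) (k : G) : Subgroup G := U ⊓ Subgroup.centralizer {k}

theorem mem_cu {k u : G} : u ∈ cu U k ↔ u ∈ U ∧ k * u = u * k := by
  rw [cu, Subgroup.mem_inf, Subgroup.mem_centralizer_singleton_iff, eq_comm (a := u * k)]

theorem inv_smul_of_fix {g : G} {a : Ω} (h : g • a = a) : g⁻¹ • a = a := inv_smul_eq_iff.mpr h.symm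

/-- An element of prime order permuting a set fixes the same number of points modulo the prime. -/
theorem mod_fix [Finite Ω] {g : G} {r : ℕ} (hr : r.Prime) (hg : g ^ r = 1) (S : Set Ω)
    (hS : ∀ x ∈ S, g • x ∈ S) : Nat.card S ≡ Nat.card {x : Ω // x ∈ S ∧ g • x = x} [MOD r] := by
  classical
  haveI := Fact.mk hr
  haveI := Fintype.ofFinite S
  let f : Function.End S := fun x => ⟨g • x.1, hS _ x.2⟩
  have hpow : ∀ (i : ℕ) (x : S), ((f ^ i) x).1 = g ^ i • x.1 := fun i => by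
    induction i with
    | zero => intro x; rw [pow_zero, pow_zero, one_smul]; rfl
    | succ i ih =>
      intro x
      rw [pow_succ, pow_succ]
      show ((f ^ i) (f x)).1 = _
      rw [ih, mul_smul]
  have hf : f ^ r ^ 1 = 1 := funext fun x => Subtype.ext (by rw [pow_one, hpow, hg, one_smul]; rfl)
  have h := Equiv.Perm.card_fixedPoints_modEq hf
  rw [← Nat.card_eq_fintype_card, ← Nat.card_eq_fintype_card] at h
  have e : Nat.card (Function.fixedPoints f) = Nat.card {x : Ω // x ∈ S ∧ g • x = x} :=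
    Nat.card_congr
      { toFun := fun x => ⟨x.1.1, x.1.2, congrArg Subtype.val x.2⟩
        invFun := fun x => ⟨⟨x.1, x.2.1⟩, Subtype.ext x.2.2⟩
        left_inv := fun _ => rfl
        right_inv := fun _ => rfl }
  rwa [← e]

namespace Hyp

variable (hy : Hyp G Ω o z U H p n)
include hy

theorem p3 : 3 ≤ p := by have := hy.prime.two_le; have := hy.p2; omega
theorem p_odd : Odd p := hy.prime.odd_of_ne_two hy.p2
theorem q_odd : Odd (p ^ n) := hy.p_odd.pow
theorem q3 : 3 ≤ p ^ n := hy.p3.trans (Nat.le_self_pow (by have := hy.n1; omega) p)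

theorem finite_points : Finite Ω := Nat.finite_of_card_ne_zero (by rw [hy.cardΩ]; omega)

theorem dd_cases : Nat.gcd 3 (p ^ n + 1) = 1 ∨ Nat.gcd 3 (p ^ n + 1) = 3 :=
  (Nat.dvd_prime Nat.prime_three).mp (Nat.gcd_dvd_left _ _)

theorem pow_two_mul : p ^ (2 * n) = (p ^ n) ^ 2 := by rw [mul_comm, pow_mul]
theorem pow_three_mul : p ^ (3 * n) = (p ^ n) ^ 3 := by rw [mul_comm, pow_mul]

theorem H_fix_o {h : G} (hh : h ∈ H) : h • o = o := ((hy.mem_H h).mp hh).1
theorem H_fix_z {h : G} (hh : h ∈ H) : h • z = z := ((hy.mem_H h).mp hh).2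

theorem two_pt {a b a' b' : Ω} (h : a ≠ b) (h' : a' ≠ b') : ∃ g : G, g • a = a' ∧ g • b = b' :=
  is_two_pretransitive_iff.mp hy.two h h'

theorem exists_to {a b : Ω} (h : a ≠ b) : ∃ g : G, g • o = a ∧ g • z = b := hy.two_pt hy.ne h

theorem comm_H {a b : G} (ha : a ∈ H) (hb : b ∈ H) : a * b = b * a := by
  haveI := hy.cyc
  let _ := IsCyclic.commGroup (α := H)
  exact congrArg Subtype.val (mul_comm (⟨a, ha⟩ : H) ⟨b, hb⟩)

theorem decomp {g : G} (hg : g • o = o) : ∃ u ∈ U, ∃ h ∈ H, g = u * h := by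
  obtain ⟨u, hu, e⟩ := hy.reg (g • z) fun e => hy.ne (smul_left_cancel g (e.trans hg.symm)).symm
  refine ⟨u, hu, u⁻¹ * g, (hy.mem_H _).mpr ⟨?_, ?_⟩, by group⟩
  · rw [mul_smul, hg, inv_smul_of_fix (hy.U_fix u hu)]
  · rw [mul_smul, ← e, inv_smul_smul]

theorem U_inter_H {u : G} (hu : u ∈ U) (hh : u ∈ H) : u = 1 := hy.free u hu (hy.H_fix_z hh)

theorem U_inj {u v : G} (hu : u ∈ U) (hv : v ∈ U) (h : u • z = v • z) : u = v :=
  (inv_mul_eq_one.mp (hy.free (v⁻¹ * u) (mul_mem (inv_mem hv) hu) (by rw [mul_smul, h, inv_smul_smul]))).symm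

theorem card_fix_o : Nat.card (stabilizer G o) = p ^ (3 * n) * Nat.card H := by
  rw [← hy.cardU, ← Nat.card_prod]
  refine (Nat.card_eq_of_bijective (fun x : U × H => (⟨x.1 * x.2, by
    rw [mem_stabilizer_iff, mul_smul, hy.H_fix_o x.2.2, hy.U_fix _ x.1.2]⟩ : stabilizer G o)) ⟨?_, ?_⟩).symm
  · rintro ⟨u, h⟩ ⟨u', h'⟩ e
    have e' : (u : G) * h = u' * h' := congrArg Subtype.val e
    have e1 : (u : G) = u' := hy.U_inj u.2 u'.2 (by
      have := congrArg (fun x : G => x • z) e'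
      simpa [mul_smul, hy.H_fix_z h.2, hy.H_fix_z h'.2] using this)
    rw [e1] at e'
    exact Prod.ext (Subtype.ext e1) (Subtype.ext (mul_left_cancel e'))
  · rintro ⟨g, hg⟩
    obtain ⟨u, hu, h, hh, rfl⟩ := hy.decomp hg
    exact ⟨(⟨u, hu⟩, ⟨h, hh⟩), rfl⟩

theorem card_G : Nat.card G = (p ^ (3 * n) + 1) * (p ^ (3 * n) * Nat.card H) := by
  haveI := hy.two
  haveI : IsPretransitive G Ω := isPretransitive_of_is_two_pretransitive
  rw [← hy.card_fix_o, ← hy.cardΩ, ← Subgroup.index_mul_card (stabilizer G o), index_stabilizer_of_transitive]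

variable [Finite G]

/-- Elements of equal order of `H` generate the same subgroup. -/
theorem zp_eq {x y : G} (hx : x ∈ H) (hy' : y ∈ H) (e : orderOf x = orderOf y) :
    Subgroup.zpowers x = Subgroup.zpowers y := by
  classical
  haveI := hy.cyc
  let _ := IsCyclic.commGroup (α := H)
  haveI := Fintype.ofFinite H
  have key : ∀ w : H, ∀ k : H, k ∈ Subgroup.zpowers w ↔ k ^ orderOf w = 1 := fun w k => by
    have hsub : (Finset.univ.filter fun a : H => a ∈ Subgroup.zpowers w) ⊆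
        (Finset.univ.filter fun a : H => a ^ orderOf w = 1) := fun a ha => by
      simp only [Finset.mem_filter, Finset.mem_univ, true_and] at ha ⊢
      obtain ⟨i, rfl⟩ := Subgroup.mem_zpowers_iff.mp ha
      rw [← zpow_natCast, ← zpow_mul, mul_comm, zpow_mul, zpow_natCast, pow_orderOf_eq_one, one_zpow]
    have hle : (Finset.univ.filter fun a : H => a ^ orderOf w = 1).card ≤ orderOf w :=
      IsCyclic.card_pow_eq_one_le (orderOf_pos w)
    have heq := Finset.eq_of_subset_of_card_le hsub (hle.trans (by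
      rw [← Nat.card_zpowers, Nat.card_eq_fintype_card, Fintype.card_subtype]))
    have := Finset.ext_iff.mp heq k
    simpa using this
  have h1 : Subgroup.zpowers (⟨x, hx⟩ : H) = Subgroup.zpowers ⟨y, hy'⟩ := by
    ext k
    rw [key, key, Subgroup.orderOf_mk, Subgroup.orderOf_mk, e]
  have h2 := congrArg (Subgroup.map H.subtype) h1
  rwa [MonoidHom.map_zpowers, MonoidHom.map_zpowers] at h2

/-- The stabiliser of a pair is a conjugate of `H`. -/
theorem conj_H {g a : G} (h1 : a • (g • o) = g • o) (h2 : a • (g • z) = g • z) : g⁻¹ * a * g ∈ H := by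
  rw [hy.mem_H, mul_smul, mul_smul, h1, mul_smul, mul_smul, h2]
  exact ⟨inv_smul_smul _ _, inv_smul_smul _ _⟩

omit [Finite G] in
theorem fix_iff {k u : G} (hk : k ∈ H) (hu : u ∈ U) : k • u • z = u • z ↔ k * u = u * k := by
  constructor
  · intro e
    have h := hy.U_inj (hy.norm k (hy.H_fix_o hk) u hu) hu (by
      rw [mul_smul, mul_smul, inv_smul_of_fix (hy.H_fix_z hk), e])
    exact mul_inv_eq_iff_eq_mul.mp h
  · intro e
    rw [← mul_smul, e, mul_smul, hy.H_fix_z hk]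

theorem card_fix {k : G} (hk : k ∈ H) : Nat.card {x : Ω // k • x = x} = Nat.card (cu U k) + 1 := by
  classical
  haveI := hy.finite_points
  rw [← Finite.card_option]
  refine (Nat.card_eq_of_bijective (fun w : Option (cu U k) =>
    (w.elim ⟨o, hy.H_fix_o hk⟩ fun u => ⟨(u : G) • z, (hy.fix_iff hk (mem_cu.mp u.2).1).mpr (mem_cu.mp u.2).2⟩ :
      {x : Ω // k • x = x})) ⟨?_, ?_⟩).symm
  · rintro (_ | u) (_ | v) e
    · rfl
    · exact absurd (smul_left_cancel (v : G) ((congrArg Subtype.val e).symm.trans (hy.U_fix _ (mem_cu.mp v.2).1).symm))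
        hy.ne.symm
    · exact absurd (smul_left_cancel (u : G) ((congrArg Subtype.val e).trans (hy.U_fix _ (mem_cu.mp u.2).1).symm))
        hy.ne.symm
    · exact congrArg some (Subtype.ext (hy.U_inj (mem_cu.mp u.2).1 (mem_cu.mp v.2).1 (congrArg Subtype.val e)))
  · rintro ⟨x, hx⟩
    by_cases ho : x = o
    · exact ⟨none, Subtype.ext ho.symm⟩
    · obtain ⟨u, hu, rfl⟩ := hy.reg x ho
      exact ⟨some ⟨u, mem_cu.mpr ⟨hu, (hy.fix_iff hk hu).mp hx⟩⟩, rfl⟩

theorem exists_cu_pow (k : G) : ∃ a, a ≤ 3 * n ∧ Nat.card (cu U k) = p ^ a :=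
  (Nat.dvd_prime_pow hy.prime).mp (hy.cardU ▸ Subgroup.card_dvd_of_le inf_le_left)

/-- Two fixed points of `k` are the images of the base points under an element normalising `⟨k⟩`. -/
theorem exists_norm {k : G} (hk : k ∈ H) {a b : Ω} (hab : a ≠ b) (ha : k • a = a) (hb : k • b = b) :
    ∃ g : G, g • o = a ∧ g • z = b ∧ g ∈ Subgroup.normalizer (Subgroup.zpowers k : Set G) := by
  obtain ⟨g, ga, gb⟩ := hy.exists_to hab
  refine ⟨g, ga, gb, ?_⟩
  have hc : g⁻¹ * k * g ∈ H := hy.conj_H (by rw [ga, ha]) (by rw [gb, hb])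
  have e : Subgroup.zpowers (g⁻¹ * k * g) = Subgroup.zpowers k := hy.zp_eq hc hk (by
    rw [← orderOf_injective (MulAut.conj g⁻¹).toMonoidHom (MulAut.conj g⁻¹).injective k]; simp)
  have e' : Subgroup.map (MulAut.conj g⁻¹).toMonoidHom (Subgroup.zpowers k) = Subgroup.zpowers k := by
    rw [MonoidHom.map_zpowers]; simpa using e
  have hinv : g⁻¹ ∈ Subgroup.normalizer (Subgroup.zpowers k : Set G) := by
    rw [Subgroup.mem_normalizer_iff_map_conj_eq]; exact e'
  simpa using inv_mem hinv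

/-- The order of the normaliser of a subgroup of `H`. -/
theorem card_norm {k : G} (hk : k ∈ H) (hk1 : k ≠ 1) :
    Nat.card (Subgroup.normalizer (Subgroup.zpowers k : Set G)) =
      (Nat.card (cu U k) + 1) * Nat.card (cu U k) * Nat.card H := by
  classical
  haveI := hy.finite_points
  set N := Subgroup.normalizer (Subgroup.zpowers k : Set G) with hN
  have hfix : ∀ g ∈ N, ∀ x : Ω, k • x = x → k • g • x = g • x := fun g hg x hx => by
    have hm : g⁻¹ * k * g ∈ Subgroup.zpowers k := by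
      simpa using (Subgroup.mem_normalizer_iff.mp (inv_mem hg) k).mp (Subgroup.mem_zpowers k)
    obtain ⟨i, hi⟩ := Subgroup.mem_zpowers_iff.mp hm
    have e1 : (g⁻¹ * k * g) • x = x := by
      rw [← hi]; exact mem_stabilizer_iff.mp (zpow_mem (mem_stabilizer_iff.mpr hx) i)
    rwa [mul_smul, mul_smul, inv_smul_eq_iff] at e1
  have horb : MulAction.orbit N ((o, z) : Ω × Ω) = {w | k • w.1 = w.1 ∧ k • w.2 = w.2 ∧ w.1 ≠ w.2} := by
    ext ⟨a, b⟩
    constructor
    · rintro ⟨g, e⟩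
      obtain ⟨e1, e2⟩ := Prod.ext_iff.mp e
      change (g : G) • o = a at e1
      change (g : G) • z = b at e2
      exact ⟨e1 ▸ hfix g g.2 o (hy.H_fix_o hk), e2 ▸ hfix g g.2 z (hy.H_fix_z hk),
        e1 ▸ e2 ▸ fun e3 => hy.ne (smul_left_cancel (g : G) e3)⟩
    · rintro ⟨h1, h2, h3⟩
      obtain ⟨g, ga, gb, gN⟩ := hy.exists_norm hk h3 h1 h2
      exact ⟨⟨g, gN⟩, Prod.ext ga gb⟩
  have hstab : (stabilizer N ((o, z) : Ω × Ω)).map N.subtype = H := by
    ext g
    rw [hy.mem_H]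
    constructor
    · rintro ⟨m, hm, rfl⟩
      exact ⟨congrArg Prod.fst hm, congrArg Prod.snd hm⟩
    · intro hg
      have hgH := (hy.mem_H g).mpr hg
      refine ⟨⟨g, ?_⟩, Prod.ext hg.1 hg.2, rfl⟩
      refine Subgroup.centralizer_le_normalizer _ (Subgroup.mem_centralizer_iff.mpr fun x hx => ?_)
      obtain ⟨i, rfl⟩ := Subgroup.mem_zpowers_iff.mp hx
      exact hy.comm_H (zpow_mem hk i) hgH
  have h1 : Nat.card (stabilizer N ((o, z) : Ω × Ω)) = Nat.card H :=
    (Nat.card_congr (Subgroup.equivMapOfInjective _ _ N.subtype_injective).toEquiv).trans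
      (congrArg (fun K : Subgroup G => Nat.card K) hstab)
  have h2 := Subgroup.index_mul_card (stabilizer N ((o, z) : Ω × Ω))
  rw [index_stabilizer, ← Nat.card_coe_set_eq, horb, h1] at h2
  have h3 : Nat.card {w : Ω × Ω | k • w.1 = w.1 ∧ k • w.2 = w.2 ∧ w.1 ≠ w.2} =
      (Nat.card (cu U k) + 1) * Nat.card (cu U k) := by
    haveI := Fintype.ofFinite {x : Ω // k • x = x}
    have e : Nat.card {w : Ω × Ω | k • w.1 = w.1 ∧ k • w.2 = w.2 ∧ w.1 ≠ w.2} =
        Nat.card (Σ a : {x : Ω // k • x = x}, {b : {x : Ω // k • x = x} // b ≠ a}) :=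
      Nat.card_congr
        { toFun := fun w => ⟨⟨w.1.1, w.2.1⟩, ⟨w.1.2, w.2.2.1⟩, fun e => w.2.2.2 (congrArg Subtype.val e).symm⟩
          invFun := fun s => ⟨(s.1.1, s.2.1.1), s.1.2, s.2.1.2, fun e => s.2.2 (Subtype.ext e.symm)⟩
          left_inv := fun _ => rfl
          right_inv := fun _ => rfl }
    rw [e, Nat.card_sigma]
    simp only [Nat.card_eq_fintype_card (α := {b : {x : Ω // k • x = x} // _}), Fintype.card_subtype_compl,
      Fintype.card_subtype_eq, Finset.sum_const, Finset.card_univ, smul_eq_mul]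
    rw [← Nat.card_eq_fintype_card, hy.card_fix hk, Nat.add_sub_cancel]
  rw [← h2, h3]

/-- The number of fixed points of a non-trivial element of `H`. -/
theorem cu_cases {k : G} (hk : k ∈ H) (hk1 : k ≠ 1) :
    ∃ a, Nat.card (cu U k) = p ^ a ∧ (a = 0 ∨ ∃ j, 1 ≤ j ∧ 3 * n = (2 * j + 1) * a) := by
  obtain ⟨a, -, ha⟩ := hy.exists_cu_pow k
  refine ⟨a, ha, (Nat.eq_zero_or_pos a).imp_right fun ha0 => ?_⟩
  have h1 := Subgroup.card_subgroup_dvd_card (Subgroup.normalizer (Subgroup.zpowers k : Set G))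
  rw [hy.card_norm hk hk1, hy.card_G, ha, ← mul_assoc (p ^ (3 * n) + 1)] at h1
  have h2 := Nat.dvd_of_mul_dvd_mul_right Nat.card_pos h1
  have hcop : Nat.Coprime (p ^ a + 1) (p ^ (3 * n)) := by
    refine Nat.Coprime.pow_right _ (Nat.Coprime.symm ((Nat.Prime.coprime_iff_not_dvd hy.prime).mpr fun h => ?_))
    exact hy.prime.ne_one (Nat.dvd_one.mp ((Nat.dvd_add_right (dvd_pow_self p ha0.ne')).mp h))
  obtain ⟨j, hj⟩ := exists_odd_mul hy.p3 ha0 (3 * n) (hcop.dvd_of_dvd_mul_right (dvd_of_mul_right_dvd h2))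
  refine ⟨j, Nat.one_le_iff_ne_zero.mpr fun hj0 => hk1 ?_, hj⟩
  subst hj0
  have hU : cu U k = U := Subgroup.eq_of_le_of_card_ge inf_le_left (by rw [ha, hy.cardU, hj]; simp)
  haveI := hy.faith
  refine eq_of_smul_eq_smul (α := Ω) fun x => ?_
  rw [one_smul]
  by_cases ho : x = o
  · rw [ho, hy.H_fix_o hk]
  · obtain ⟨u, hu, rfl⟩ := hy.reg x ho
    exact (hy.fix_iff hk hu).mpr (mem_cu.mp (hU.symm ▸ hu)).2

end Hyp

end CfsgLib.U3BN
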