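import Cfsg.Agent.Lib.U3BN.Torus
import Cfsg.Agent.Lib.U3Cent.Model
import Mathlib.FieldTheory.Finite.GaloisField
import Mathlib.Algebra.Ring.Subring.Basic

/-!
# Coordinates for the torus and the translations of the line
-/

set_option autoImplicit false
set_option linter.unusedSectionVars false
set_option linter.style.haveILetI false

namespace CfsgLib.U3BN

open MulAction Pointwise CfsgLib.PSUBorel CfsgLib.U3Cent

universe u v

variable {G : Type u} {Ω : Type v} [Group G] [MulAction G Ω] {o z : Ω} {U H : Subgroup G} {p n : ℕ} {t v : G}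

/-- The torus is a quotient of `Fˣ` and the translations are the elements of trace zero. -/
structure Coord (U H : Subgroup G) (t : G) (p n : ℕ) {F : Type} [Field F] [Fintype F] (c : Conj F)
    (ψ : Fˣ →* G) (φ : X0 c → G) : Prop where
  hq : c.q = p ^ n
  mem : ∀ x, φ x ∈ cu U t
  inj : Function.Injective φ
  surj : ∀ m ∈ cu U t, ∃ x, φ x = m
  add : ∀ x y, φ (x + y) = φ x * φ y
  range : ψ.range = H
  ker0_iff : ∀ a, ψ a ∈ ker0 U H t ↔ (a : F) * c.σ (a : F) = 1
  odd_ker : Odd (Nat.card ψ.ker)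
  neg_one : ψ (-1) = t
  equiv : ∀ (a : Fˣ) (x : X0 c), ψ a * φ x * (ψ a)⁻¹ = φ ⟨_, norm_mul_X0 (a : F) x⟩

/-- The elements fixed by the conjugation. -/
def fixF {F : Type} [Field F] [Fintype F] (c : Conj F) : Subfield F := c.σ.eqLocusField (RingHom.id F)

theorem mem_fixF {F : Type} [Field F] [Fintype F] {c : Conj F} {a : F} : a ∈ fixF c ↔ c.σ a = a := Iff.rfl

theorem card_fixF {F : Type} [Field F] [Fintype F] {c : Conj F} : Nat.card (fixF c) = c.q := by
  obtain ⟨b0, hb, hb0⟩ := c.exists_antifixed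
  rw [← card_X0 (c := c)]
  refine Nat.card_congr
    { toFun := fun a => ⟨(a : F) * b0, by rw [mem_X0, map_mul, mem_fixF.mp a.2, hb0]; ring⟩
      invFun := fun x => ⟨(x : F) / b0, mem_fixF.mpr (by rw [map_div₀, sig_X0, hb0, neg_div_neg_eq])⟩
      left_inv := fun a => Subtype.ext (mul_div_cancel_right₀ _ hb)
      right_inv := fun x => Subtype.ext (div_mul_cancel₀ _ hb) }

namespace Hyp

variable [Finite G] (hy : Hyp G Ω o z U H p n) (hf : Frame U H p n t) (hv : Swap Ω o z U H p n t v)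
include hy hf hv

theorem exists_coord : ∃ (F : Type) (_ : Field F) (_ : Fintype F) (c : Conj F) (ψ : Fˣ →* G) (φ : X0 c → G),
    Coord U H t p n c ψ φ := by
  classical
  haveI := Fact.mk hy.prime
  haveI := hy.cyc
  -- the generator
  obtain ⟨g0, hg0⟩ := IsCyclic.exists_generator (α := H)
  set g : G := (g0 : G) with hgdef
  have hgH : g ∈ H := g0.2
  have hgen : ∀ h ∈ H, ∃ i : ℕ, g ^ i = h := fun h hh => by
    obtain ⟨i, hi⟩ := (IsOfFinOrder.mem_powers_iff_mem_zpowers (isOfFinOrder_of_finite g0)).mpr (hg0 ⟨h, hh⟩)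
    exact ⟨i, by simpa using congrArg Subtype.val hi⟩
  have hpow := fun i => hy.pow_mem_ker0 hf hv hgH hgen (i := i)
  have hordg := hy.order_gen hgH hgen
  have hcardH := hy.card_H_eq hf hv
  have h3 := hy.q3
  -- the translations as an additive group
  letI : CommGroup (cu U t) := { (inferInstance : Group (cu U t)) with
    mul_comm := fun a b => Subtype.ext (hy.comm_M hf hv hgH hgen a.2 b.2) }
  let Vt := Additive (cu U t)
  let cj : cu U t →* cu U t := MonoidHom.mk' (fun a => ⟨g * a * g⁻¹, hy.conj_M hf hgH a.2⟩) fun a b => Subtype.ext (by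
    show g * ((a : G) * b) * g⁻¹ = g * a * g⁻¹ * (g * b * g⁻¹); group)
  let γ : AddMonoid.End Vt := MonoidHom.toAdditive cj
  have hγ : ∀ (i : ℕ) (a : cu U t), (((γ ^ i) (Additive.ofMul a)).toMul : G) = g ^ i * a * (g ^ i)⁻¹ := by
    intro i
    induction i with
    | zero => intro a; simp
    | succ i ih =>
      intro a
      rw [pow_succ']
      show g * (((γ ^ i) (Additive.ofMul a)).toMul : G) * g⁻¹ = _
      rw [ih, pow_succ']; group
  have hγ1 : ∀ i, γ ^ i = 1 ↔ p ^ n - 1 ∣ i := fun i => by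
    rw [← hpow]
    constructor
    · intro e
      refine mem_ker0.mpr ⟨pow_mem hgH i, fun m hm => ?_⟩
      have h1 := hγ i ⟨m, hm⟩
      rw [e] at h1
      exact (mul_inv_eq_iff_eq_mul.mp h1.symm).symm
    · intro hK
      refine AddMonoidHom.ext fun w => Additive.toMul.injective (Subtype.ext ?_)
      obtain ⟨a, rfl⟩ := Additive.ofMul.surjective w
      show (((γ ^ i) (Additive.ofMul a)).toMul : G) = (a : G)
      rw [hγ, ← (mem_ker0.mp hK).2 a a.2, mul_inv_cancel_right]
  have hinvariant : ∀ S : AddSubgroup Vt, (∀ w ∈ S, γ w ∈ S) → S = ⊥ ∨ S = ⊤ := by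
    intro S hS
    rcases hy.irreducible hf hv hgH hgen (A := (AddSubgroup.toSubgroup' S).map (cu U t).subtype)
      (Subgroup.map_subtype_le _) (by
        rintro _ ⟨a, ha, rfl⟩
        exact ⟨cj a, hS _ ha, rfl⟩) with h | h
    · left
      refine (AddSubgroup.eq_bot_iff_forall _).mpr fun w hw => ?_
      have : ((Additive.toMul w : cu U t) : G) ∈ (⊥ : Subgroup G) := h ▸ ⟨Additive.toMul w, hw, rfl⟩
      exact Additive.toMul.injective (Subtype.ext (Subgroup.mem_bot.mp this))
    · right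
      refine (AddSubgroup.eq_top_iff' _).mpr fun w => ?_
      have : ((Additive.toMul w : cu U t) : G) ∈ (AddSubgroup.toSubgroup' S).map (cu U t).subtype :=
        h.symm ▸ (Additive.toMul w : cu U t).2
      obtain ⟨a, ha, e⟩ := this
      rw [show w = Additive.ofMul a from Additive.toMul.injective (Subtype.ext e.symm)]
      exact ha
  -- the field
  set E := Subring.closure ({γ} : Set (AddMonoid.End Vt))
  letI : CommRing E := Subring.closureCommRingOfComm (by
    intro x hx y hy'; rw [Set.mem_singleton_iff.mp hx, Set.mem_singleton_iff.mp hy'])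
  let γE : E := ⟨γ, Subring.subset_closure rfl⟩
  have hcomm : ∀ (e : E) w, γ (e.1 w) = e.1 (γ w) := fun e w =>
    congrArg (fun x : E => x.1 w) (mul_comm γE e)
  have hnz : ∀ e : E, e ≠ 0 → ∀ w, e.1 w = 0 → w = 0 := fun e he w hw => by
    by_contra hw0
    rcases hinvariant (AddMonoidHom.ker (e.1 : Vt →+ Vt)) (fun y hy' => by
      show e.1 (γ y) = 0
      rw [← hcomm, show e.1 y = 0 from hy', map_zero]) with h | h
    · have : w ∈ AddMonoidHom.ker (e.1 : Vt →+ Vt) := hw
      rw [h, AddSubgroup.mem_bot] at this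
      exact hw0 this
    · exact he (Subtype.ext (AddMonoidHom.ext fun y => (show y ∈ AddMonoidHom.ker (e.1 : Vt →+ Vt) from h ▸ trivial)))
  haveI : Nontrivial Vt := Finite.one_lt_card_iff_nontrivial.mp (by
    rw [show Nat.card Vt = p ^ n from (Nat.card_congr Additive.toMul).trans (hy.card_M hf)]; omega)
  obtain ⟨v0, hv0⟩ := exists_ne (0 : Vt)
  haveI : Nontrivial E := ⟨⟨0, 1, fun h => hv0 (congrArg (fun x : E => x.1 v0) h).symm⟩⟩
  haveI : NoZeroDivisors E := ⟨fun {x y} h => by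
    by_contra hne
    push Not at hne
    exact hv0 (hnz y hne.2 v0 (hnz x hne.1 _ (congrArg (fun w : E => w.1 v0) h)))⟩
  haveI : IsDomain E := NoZeroDivisors.to_isDomain E
  haveI : Finite E := Finite.of_injective (fun e : E => fun w => e.1 w)
    fun x y h => Subtype.ext (AddMonoidHom.ext (congrFun h))
  haveI := Fintype.ofFinite E
  letI : Field E := Fintype.fieldOfDomain E
  let ev : E →+ Vt := AddMonoidHom.mk' (fun e => e.1 v0) fun x y => rfl
  have hev : Function.Bijective ev := by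
    refine ⟨(injective_iff_map_eq_zero ev).mpr fun e he => by_contra fun hne => hv0 (hnz e hne v0 he), ?_⟩
    rw [← AddMonoidHom.range_eq_top]
    refine (hinvariant _ ?_).resolve_left fun h => hv0 ?_
    · rintro _ ⟨e, rfl⟩
      exact ⟨γE * e, rfl⟩
    · have : v0 ∈ ev.range := ⟨1, rfl⟩
      rwa [h, AddSubgroup.mem_bot] at this
  let evE : E ≃+ Vt := AddEquiv.ofBijective ev hev
  -- the big field
  haveI : Fintype (GaloisField p (2 * n)) := Fintype.ofFinite _
  have hcardF : Fintype.card (GaloisField p (2 * n)) = (p ^ n) ^ 2 := by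
    rw [← Nat.card_eq_fintype_card, GaloisField.card p (2 * n) (by have := hy.n1; omega), hy.pow_two_mul]
  let c : Conj (GaloisField p (2 * n)) :=
    { q := p ^ n
      σ := iterateFrobenius (GaloisField p (2 * n)) p n
      card := hcardF
      hσ := fun x => by rw [iterateFrobenius_def] }
  haveI : Fintype (fixF c) := Fintype.ofFinite _
  let ι : E ≃+* fixF c := FiniteField.ringEquivOfCardEq (by
    rw [← Nat.card_eq_fintype_card, ← Nat.card_eq_fintype_card, card_fixF, Nat.card_congr evE.toEquiv]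
    exact (Nat.card_congr Additive.toMul).trans (hy.card_M hf))
  set lam : GaloisField p (2 * n) := ((ι γE : fixF c) : GaloisField p (2 * n)) with hlam
  have hlam1 : ∀ i : ℕ, lam ^ i = 1 ↔ p ^ n - 1 ∣ i := fun i => by
    rw [← hγ1, hlam, ← SubmonoidClass.coe_pow, OneMemClass.coe_eq_one, ← map_pow, map_eq_one_iff _ ι.injective,
      Subtype.ext_iff]
    rfl
  have hlam0 : lam ≠ 0 := fun e => by
    have h := (hlam1 (p ^ n - 1)).mpr dvd_rfl
    rw [e, zero_pow (by omega)] at h
    exact zero_ne_one h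
  -- a generator with norm `lam`
  obtain ⟨ω0, hω0⟩ := IsCyclic.exists_generator (α := (GaloisField p (2 * n))ˣ)
  have hcu : Nat.card (GaloisField p (2 * n))ˣ = (p ^ n - 1) * (p ^ n + 1) := by
    rw [Nat.card_eq_fintype_card, Fintype.card_units, hcardF]
    have := Nat.sq_sub_sq (p ^ n) 1
    rw [one_pow] at this
    rw [this, mul_comm]
  have ho0 : orderOf ω0 = (p ^ n - 1) * (p ^ n + 1) := by
    rw [orderOf_eq_card_of_forall_mem_zpowers hω0, hcu]
  have hN : ∀ a : (GaloisField p (2 * n))ˣ, (a : GaloisField p (2 * n)) * c.σ (a : GaloisField p (2 * n)) =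
      ((a ^ (p ^ n + 1) : (GaloisField p (2 * n))ˣ) : GaloisField p (2 * n)) := fun a => by
    rw [Units.val_pow_eq_pow_val, pow_succ', c.hσ]
  have hlfix : c.σ lam = lam := (ι γE).2
  obtain ⟨w, hw⟩ := c.exists_norm hlfix
  have hw0 : w ≠ 0 := fun e => hlam0 (by rw [← hw, e, zero_mul])
  obtain ⟨j, hj⟩ := (IsOfFinOrder.mem_powers_iff_mem_zpowers (isOfFinOrder_of_finite ω0)).mpr (hω0 (Units.mk0 w hw0))
  change ω0 ^ j = Units.mk0 w hw0 at hj
  have hlamj : lam = ((ω0 ^ (j * (p ^ n + 1)) : (GaloisField p (2 * n))ˣ) : GaloisField p (2 * n)) := by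
    rw [pow_mul, hj, ← hN, Units.val_mk0, hw]
  have hcop : j.Coprime (p ^ n - 1) := by
    rw [Nat.coprime_iff_gcd_eq_one]
    set dd := Nat.gcd j (p ^ n - 1) with hdd
    obtain ⟨j', hj'⟩ : dd ∣ j := Nat.gcd_dvd_left _ _
    obtain ⟨m', hm'⟩ : dd ∣ p ^ n - 1 := Nat.gcd_dvd_right _ _
    have h1 : lam ^ m' = 1 := by
      rw [hlamj, ← Units.val_pow_eq_pow_val, ← pow_mul, Units.val_eq_one, ← orderOf_dvd_iff_pow_eq_one, ho0, hj', hm']
      exact ⟨j', by ring⟩
    have h2 := (hlam1 m').mp h1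
    rw [hm'] at h2
    have hm0 : 0 < m' := by
      rcases Nat.eq_zero_or_pos m' with rfl | h
      · omega
      · exact h
    have h4 := Nat.le_of_dvd hm0 h2
    have hdd0 : 0 < dd := Nat.pos_of_mul_pos_right (by rw [← hm']; omega : 0 < dd * m')
    nlinarith
  haveI : NeZero ((p ^ n - 1) * (p ^ n + 1)) := ⟨Nat.mul_ne_zero (by omega) (by omega)⟩
  obtain ⟨k', hk'⟩ := ZMod.unitsMap_surjective (dvd_mul_right (p ^ n - 1) (p ^ n + 1))
    (ZMod.unitOfCoprime j hcop)
  set k := (k' : ZMod ((p ^ n - 1) * (p ^ n + 1))).val with hkdef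
  have hkj : k ≡ j [MOD (p ^ n - 1)] := by
    rw [← ZMod.natCast_eq_natCast_iff, hkdef, ZMod.natCast_val]
    have := congrArg (Units.val : (ZMod (p ^ n - 1))ˣ → ZMod (p ^ n - 1)) hk'
    rw [ZMod.coe_unitOfCoprime] at this
    exact this
  have hkcop : k.Coprime ((p ^ n - 1) * (p ^ n + 1)) := ZMod.val_coe_unit_coprime k'
  set ω := ω0 ^ k with hω
  have hoω : orderOf ω = (p ^ n - 1) * (p ^ n + 1) := by
    rw [hω, (ho0 ▸ hkcop.symm : (orderOf ω0).Coprime k).orderOf_pow, ho0]
  have hωgen : ∀ a : (GaloisField p (2 * n))ˣ, a ∈ Subgroup.zpowers ω := fun a => by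
    have : Subgroup.zpowers ω = ⊤ := Subgroup.eq_top_of_card_eq _ (by rw [Nat.card_zpowers, hoω, hcu])
    rw [this]; trivial
  have hωN : (ω : GaloisField p (2 * n)) * c.σ (ω : GaloisField p (2 * n)) = lam := by
    rw [hN, hlamj, hω, ← pow_mul]
    congr 1
    rw [pow_eq_pow_iff_modEq, ho0]
    exact hkj.mul_right' (p ^ n + 1)
  have hdvd : orderOf g ∣ orderOf ω := by
    rw [hordg, hoω, mul_comm]
    exact ⟨Nat.gcd 3 (p ^ n + 1), by
      rw [mul_comm (Nat.card H), hy.cardH, hy.pow_two_mul]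
      have := Nat.sq_sub_sq (p ^ n) 1
      rw [one_pow] at this
      rw [this]⟩
  set ψ := monoidHomOfForallMemZpowers hωgen hdvd with hψ
  have hψω : ψ ω = g := monoidHomOfForallMemZpowers_apply_gen hωgen hdvd
  have hpowsurj : ∀ a, ∃ i : ℕ, ω ^ i = a := fun a =>
    (IsOfFinOrder.mem_powers_iff_mem_zpowers (isOfFinOrder_of_finite ω)).mpr (hωgen a)
  -- the translations
  obtain ⟨b0, hb, hb0⟩ := c.exists_antifixed
  have hdiv : ∀ x : X0 c, (x : GaloisField p (2 * n)) / b0 ∈ fixF c := fun x =>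
    mem_fixF.mpr (by rw [map_div₀, sig_X0, hb0, neg_div_neg_eq])
  set φ : X0 c → G := fun x => ((evE (ι.symm ⟨_, hdiv x⟩)).toMul : G) with hφ
  have hψr : ψ.range = H := by
    ext h
    constructor
    · rintro ⟨a, rfl⟩
      obtain ⟨i, rfl⟩ := hpowsurj a
      rw [map_pow, hψω]
      exact pow_mem hgH i
    · intro hh
      obtain ⟨i, rfl⟩ := hgen h hh
      exact ⟨ω ^ i, by rw [map_pow, hψω]⟩
  have hequiv : ∀ (i : ℕ) (x : X0 c), g ^ i * φ x * (g ^ i)⁻¹ =
      φ ⟨_, norm_mul_X0 ((ω ^ i : (GaloisField p (2 * n))ˣ) : GaloisField p (2 * n)) x⟩ := fun i x => by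
    rw [hφ]
    dsimp only
    have e1 : ι.symm ⟨_, hdiv ⟨_, norm_mul_X0 ((ω ^ i : (GaloisField p (2 * n))ˣ) : GaloisField p (2 * n)) x⟩⟩ =
        γE ^ i * ι.symm ⟨_, hdiv x⟩ := by
      refine ι.injective (Subtype.ext ?_)
      rw [RingEquiv.apply_symm_apply, map_mul, map_pow, RingEquiv.apply_symm_apply, Subfield.coe_mul,
        SubmonoidClass.coe_pow]
      show _ = lam ^ i * _
      rw [← hωN]
      dsimp only
      rw [Units.val_pow_eq_pow_val, map_pow]
      ring
    rw [e1]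
    exact (hγ i _).symm
  have hK : ∀ a, ψ a ∈ ker0 U H t ↔ (a : GaloisField p (2 * n)) * c.σ (a : GaloisField p (2 * n)) = 1 := fun a => by
    obtain ⟨i, rfl⟩ := hpowsurj a
    rw [map_pow, hψω, hpow, ← hlam1, ← hωN]
    simp only [mul_pow, Units.val_pow_eq_pow_val, map_pow]
  refine ⟨GaloisField p (2 * n), inferInstance, inferInstance, c, ψ, φ, rfl,
    fun x => (evE (ι.symm ⟨_, hdiv x⟩)).toMul.2, fun x y e => ?_, fun m hm => ?_, fun x y => ?_, hψr, hK, ?_, ?_,
    fun a x => ?_⟩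
  · have e1 := evE.injective (Additive.toMul.injective (Subtype.ext e))
    have e2 := congrArg Subtype.val (ι.symm.injective e1)
    exact Subtype.ext ((div_left_inj' hb).mp e2)
  · have hm' : ((ι (evE.symm (Additive.ofMul ⟨m, hm⟩))) : GaloisField p (2 * n)) * b0 ∈ X0 c := by
      rw [mem_X0, map_mul, mem_fixF.mp (ι (evE.symm (Additive.ofMul ⟨m, hm⟩))).2, hb0]; ring
    refine ⟨⟨_, hm'⟩, ?_⟩
    · rw [hφ]
      dsimp only
      rw [show (⟨_, hdiv ⟨_, hm'⟩⟩ : fixF c) =
        ι (evE.symm (Additive.ofMul ⟨m, hm⟩)) from Subtype.ext (mul_div_cancel_right₀ _ hb),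
        RingEquiv.symm_apply_apply, AddEquiv.apply_symm_apply]
      rfl
  · rw [hφ]
    dsimp only
    rw [show (⟨_, hdiv (x + y)⟩ : fixF c) = ⟨_, hdiv x⟩ + ⟨_, hdiv y⟩ from Subtype.ext (add_div _ _ _), map_add,
      map_add]
    rfl
  · -- the kernel has order `d`
    have h1 := Subgroup.card_eq_card_quotient_mul_card_subgroup ψ.ker
    rw [Nat.card_congr (QuotientGroup.quotientKerEquivRange ψ).toEquiv, hψr, hcu] at h1
    have h2 : Nat.card H * Nat.gcd 3 (p ^ n + 1) = Nat.card H * Nat.card ψ.ker := by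
      rw [← h1, mul_comm (Nat.card H), hy.cardH, hy.pow_two_mul, mul_comm (p ^ n - 1)]
      have := Nat.sq_sub_sq (p ^ n) 1
      rwa [one_pow] at this
    rw [← Nat.eq_of_mul_eq_mul_left Nat.card_pos h2]
    rcases hy.dd_cases with e | e <;> rw [e] <;> decide
  · have hneg : ψ (-1) ∈ ker0 U H t := (hK _).mpr (by simp)
    have hsq : ψ (-1) ^ 2 = 1 := by rw [← map_pow, neg_one_sq, map_one]
    have hne : ψ (-1) ≠ 1 := fun e => by
      have h1 := Subgroup.orderOf_dvd_natCard ψ.ker (show (-1 : (GaloisField p (2 * n))ˣ) ∈ ψ.ker from e)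
      have h2 : (2 : GaloisField p (2 * n)) ≠ 0 := two_ne (c := c) hy.q_odd
      rw [orderOf_eq_prime (p := 2) neg_one_sq (fun e' => h2 (by
        have e'' := congrArg Units.val e'
        simp only [Units.val_neg, Units.val_one] at e''
        linear_combination -e''))] at h1
      have h1' := Subgroup.card_eq_card_quotient_mul_card_subgroup ψ.ker
      rw [Nat.card_congr (QuotientGroup.quotientKerEquivRange ψ).toEquiv, hψr, hcu] at h1'
      have h3' : Nat.card H * Nat.gcd 3 (p ^ n + 1) = Nat.card H * Nat.card ψ.ker := by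
        rw [← h1', mul_comm (Nat.card H), hy.cardH, hy.pow_two_mul, mul_comm (p ^ n - 1)]
        have := Nat.sq_sub_sq (p ^ n) 1
        rwa [one_pow] at this
      rw [← Nat.eq_of_mul_eq_mul_left Nat.card_pos h3'] at h1
      rcases hy.dd_cases with e' | e' <;> rw [e'] at h1 <;> norm_num at h1
    have hordt : orderOf t = 2 := orderOf_eq_prime hf.sq hf.ne
    have hordn : orderOf (ψ (-1)) = 2 := orderOf_eq_prime hsq hne
    have h1 := hy.zp_eq (mem_ker0.mp hneg).1 hf.mem (hordn.trans hordt.symm)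
    obtain ⟨i, hi⟩ := Subgroup.mem_zpowers_iff.mp (h1 ▸ Subgroup.mem_zpowers (ψ (-1)))
    rcases Int.even_or_odd' i with ⟨r, rfl | rfl⟩
    · rw [zpow_mul, show t ^ (2 : ℤ) = 1 by rw [show (2 : ℤ) = ((2 : ℕ) : ℤ) from rfl, zpow_natCast, hf.sq],
        one_zpow] at hi
      exact absurd hi.symm hne
    · rw [zpow_add, zpow_mul, show t ^ (2 : ℤ) = 1 by rw [show (2 : ℤ) = ((2 : ℕ) : ℤ) from rfl, zpow_natCast, hf.sq],
        one_zpow, one_mul, zpow_one] at hi
      exact hi.symm
  · obtain ⟨i, rfl⟩ := hpowsurj a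
    rw [map_pow, hψω]
    exact hequiv i x

end Hyp

end CfsgLib.U3BN
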