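import Cfsg.Agent.Lib.U3BN.Lines

/-!
# The involution fixes a whole line

The conjugates of the involution carrying a line to a given disjoint line are at most `q + 1`, and there would be
too many of them if the involution fixed fewer than `q + 1` points.
-/

set_option autoImplicit false
set_option linter.unusedSectionVars false

namespace CfsgLib.U3BN

open MulAction Pointwise

universe u v

variable {G : Type u} {Ω : Type v} [Group G] [MulAction G Ω] {o z : Ω} {U H : Subgroup G} {p n : ℕ} {x : G}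

/-- The arithmetic of the count. -/
theorem count_false {q f : ℤ} (hq : 3 ≤ q) (hf : 1 ≤ f) (hfq : f = 1 ∨ (3 ≤ f ∧ f ^ 3 ≤ q))
    (h : (q + 1) * (q ^ 2 - q - f) ≤ f * (f + 1) * (q ^ 2 - q - 1)) : False := by
  rcases hfq with rfl | ⟨hf3, hfc⟩
  · nlinarith [mul_pos (show (0:ℤ) < q - 1 by omega) (show (0:ℤ) < q ^ 2 - q - 1 by nlinarith)]
  · have hfq' : f ≤ q := le_trans (le_self_pow₀ hf (by norm_num)) hfc
    have h9 : 9 ≤ f * f := by nlinarith
    have h4 : 4 ≤ q := le_trans (by nlinarith [mul_le_mul_of_nonneg_right h9 (show (0:ℤ) ≤ f by omega)]) hfc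
    have hX : f + 1 ≤ q ^ 2 - q - f := by nlinarith
    have h1 : 0 < (f - 1) * (q ^ 2 - q - f) - f := by nlinarith
    have h2 := mul_pos (mul_pos (show (0:ℤ) < f + 1 by omega) (show (0:ℤ) < f - 1 by omega)) h1
    nlinarith [mul_le_mul_of_nonneg_right (show (f + 1) * (f ^ 2 - f + 1) ≤ q + 1 by nlinarith)
      (show (0:ℤ) ≤ q ^ 2 - q - f by omega)]

theorem disjoint_smul {g : G} {A B : Set Ω} : Disjoint (g • A) (g • B) ↔ Disjoint A B := by
  simp [Set.disjoint_left, Set.mem_smul_set_iff_inv_smul_mem]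
  exact ⟨fun h a ha => by simpa using h (a := g • a) (by simpa using ha), fun h a ha => h ha⟩

namespace Hyp

variable [Finite G] (hy : Hyp G Ω o z U H p n) (hx : Special U H p n x)
include hy hx

/-- The lines through a point of the base line, other than it. -/
theorem card_through {a : Ω} (ha : a ∈ base Ω x) :
    Nat.card {L : Set Ω // IsLine x L ∧ a ∈ L ∧ L ≠ base Ω x} * p ^ n = p ^ (3 * n) - p ^ n := by
  classical
  haveI := hy.finite_points
  haveI := Fintype.ofFinite {L : Set Ω // IsLine x L ∧ a ∈ L ∧ L ≠ base Ω x}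
  have e : Nat.card (Σ L : {L : Set Ω // IsLine x L ∧ a ∈ L ∧ L ≠ base Ω x}, ↥(L.1 \ ({a} : Set Ω))) =
      Nat.card ↥((base Ω x)ᶜ) := by
    refine Nat.card_eq_of_bijective (fun s => (⟨s.2.1, fun hb => s.1.2.2.2
      (hy.line_unique hx s.1.2.1 isLine_base (fun e => s.2.2.2 e.symm) s.1.2.2.1 s.2.2.1 ha hb)⟩ :
        ↥((base Ω x)ᶜ))) ⟨?_, ?_⟩
    · rintro ⟨⟨L, hL, haL, hne⟩, w, hw, hwa⟩ ⟨⟨L', hL', haL', hne'⟩, w', hw', hwa'⟩ e'
      obtain rfl : w = w' := congrArg Subtype.val e'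
      obtain rfl : L = L' := hy.line_unique hx hL hL' (fun e => hwa e.symm) haL hw haL' hw'
      rfl
    · rintro ⟨w, hw⟩
      have hne : a ≠ w := fun e => hw (e ▸ ha)
      obtain ⟨L, hL, h1, h2⟩ := hy.exists_line hx hne
      exact ⟨⟨⟨L, hL, h1, fun e' => hw (e' ▸ h2)⟩, ⟨w, h2, hne.symm⟩⟩, rfl⟩
  rw [Nat.card_sigma, Finset.sum_congr rfl (fun L _ => show Nat.card ↥(L.1 \ ({a} : Set Ω)) = p ^ n by
      rw [Nat.card_coe_set_eq, Set.ncard_sdiff_singleton_of_mem L.2.2.1, ← Nat.card_coe_set_eq,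
        hy.card_line hx L.2.1, Nat.add_sub_cancel]),
    Finset.sum_const, Finset.card_univ, smul_eq_mul, ← Nat.card_eq_fintype_card, Nat.card_coe_set_eq,
    Set.ncard_compl, ← Nat.card_coe_set_eq, hy.card_base hx, hy.cardΩ] at e
  omega

theorem card_through_eq {a : Ω} (ha : a ∈ base Ω x) :
    Nat.card {L : Set Ω // IsLine x L ∧ a ∈ L ∧ L ≠ base Ω x} = (p ^ n) ^ 2 - 1 := by
  have h := hy.card_through hx ha
  refine Nat.eq_of_mul_eq_mul_right (Nat.pow_pos (n := n) hy.prime.pos) ?_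
  rw [h, hy.pow_three_mul, Nat.sub_mul, one_mul, ← pow_succ]

theorem card_fixed_lines_eq {t : G} (htH : t ∈ H) (ht : t ^ 2 = 1) (ht1 : t ≠ 1) :
    Nat.card {L : Set Ω // IsLine x L ∧ t • L = L ∧ L ≠ base Ω x} = (p ^ n) ^ 2 - p ^ n := by
  have h := hy.card_fixed_lines hx htH ht ht1
  refine Nat.eq_of_mul_eq_mul_right (Nat.succ_pos (p ^ n)) ?_
  rw [Nat.succ_eq_add_one, h, hy.pow_three_mul]
  have h3 := hy.q3
  have h1 : p ^ n ≤ (p ^ n) ^ 2 := Nat.le_self_pow (by norm_num) _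
  have h2 : p ^ n ≤ (p ^ n) ^ 3 := Nat.le_self_pow (by norm_num) _
  zify [h1, h2]
  ring

theorem card_lines_eq : Nat.card ↥(orbit G (base Ω x)) + (p ^ n) ^ 3 = (p ^ n) ^ 4 + (p ^ n) ^ 2 := by
  have h := hy.card_lines hx
  rw [hy.pow_three_mul] at h
  refine Nat.eq_of_mul_eq_mul_right (Nat.mul_pos (Nat.succ_pos (p ^ n)) (Nat.pow_pos (n := n) hy.prime.pos)) ?_
  rw [Nat.succ_eq_add_one, add_mul, h]
  ring

/-- The lines meeting the base line are those through its points. -/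
theorem card_disjoint_base :
    Nat.card {L : Set Ω // IsLine x L ∧ Disjoint (base Ω x) L} + (1 + (p ^ n + 1) * ((p ^ n) ^ 2 - 1)) =
      Nat.card ↥(orbit G (base Ω x)) := by
  classical
  haveI := hy.finite_points
  haveI := Fintype.ofFinite ↥(base Ω x)
  have e1 : Nat.card {L : Set Ω // IsLine x L ∧ ¬ Disjoint (base Ω x) L} =
      Nat.card (Option (Σ a : ↥(base Ω x), {L : Set Ω // IsLine x L ∧ a.1 ∈ L ∧ L ≠ base Ω x})) := by
    refine (Nat.card_eq_of_bijective (fun s => (s.elim ⟨base Ω x, isLine_base,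
      Set.not_disjoint_iff.mpr ⟨o, hy.o_mem hx, hy.o_mem hx⟩⟩
      fun s => ⟨s.2.1, s.2.2.1, Set.not_disjoint_iff.mpr ⟨s.1.1, s.1.2, s.2.2.2.1⟩⟩ :
        {L : Set Ω // IsLine x L ∧ ¬ Disjoint (base Ω x) L})) ⟨?_, ?_⟩).symm
    · rintro (_ | ⟨⟨a, ha⟩, L, hL, haL, hne⟩) (_ | ⟨⟨a', ha'⟩, L', hL', haL', hne'⟩) e'
      · rfl
      · exact absurd (congrArg Subtype.val e').symm hne'
      · exact absurd (congrArg Subtype.val e') hne
      · obtain rfl : L = L' := congrArg Subtype.val e'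
        obtain rfl : a = a' := by
          by_contra h
          exact hne (hy.line_unique hx hL isLine_base h haL haL' ha ha')
        rfl
    · rintro ⟨L, hL, hd⟩
      by_cases h : L = base Ω x
      · exact ⟨none, Subtype.ext h.symm⟩
      · obtain ⟨a, ha, haL⟩ := Set.not_disjoint_iff.mp hd
        exact ⟨some ⟨⟨a, ha⟩, L, hL, haL, h⟩, rfl⟩
  rw [Finite.card_option, Nat.card_sigma,
    Finset.sum_congr rfl (fun a _ => hy.card_through_eq hx a.2), Finset.sum_const, Finset.card_univ, smul_eq_mul,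
    ← Nat.card_eq_fintype_card, hy.card_base hx] at e1
  rw [add_comm 1, ← e1]
  exact (Nat.card_sum).symm.trans (Nat.card_congr
    { toFun := fun s => s.elim (fun L => ⟨L.1, L.2.1⟩) (fun L => ⟨L.1, L.2.1⟩)
      invFun := fun L => if h : Disjoint (base Ω x) L.1 then Sum.inl ⟨L.1, L.2, h⟩ else Sum.inr ⟨L.1, L.2, h⟩
      left_inv := fun s => by
        rcases s with L | L
        · simp [L.2.2]
        · simp [L.2.2]
      right_inv := fun L => by
        dsimp only
        split <;> rfl })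

/-- The lines moved by an involution of the torus to disjoint ones. -/
theorem card_moved {t : G} (htH : t ∈ H) (ht : t ^ 2 = 1) (ht1 : t ≠ 1) :
    Nat.card {L : Set Ω // IsLine x L ∧ Disjoint (t • L) L} +
      (1 + ((p ^ n) ^ 2 - p ^ n) + (Nat.card (cu U t) + 1) * ((p ^ n) ^ 2 - 1)) =
      Nat.card ↥(orbit G (base Ω x)) := by
  classical
  haveI := hy.finite_points
  haveI := Fintype.ofFinite {w : Ω // t • w = w}
  have hsub : ∀ w : {w : Ω // t • w = w}, w.1 ∈ base Ω x := fun w =>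
    hy.fix_two hx ht1 isLine_base hy.ne (hy.o_mem hx) (hy.z_mem hx) (hy.H_fix_o htH) (hy.H_fix_z htH) w.2
  have hbase : t • base Ω x = base Ω x := (hy.smul_base_iff hx).mpr (hy.H_le_nz hx htH)
  have e1 : Nat.card {L : Set Ω // IsLine x L ∧ ¬ Disjoint (t • L) L} =
      Nat.card (Option ({L : Set Ω // IsLine x L ∧ t • L = L ∧ L ≠ base Ω x} ⊕
        Σ a : {w : Ω // t • w = w}, {L : Set Ω // IsLine x L ∧ a.1 ∈ L ∧ L ≠ base Ω x})) := by
    refine (Nat.card_eq_of_bijective (fun s => (s.elim ⟨base Ω x, isLine_base, by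
      rw [hbase]; exact Set.not_disjoint_iff.mpr ⟨o, hy.o_mem hx, hy.o_mem hx⟩⟩
      fun s => s.elim
        (fun L => ⟨L.1, L.2.1, by
          rw [L.2.2.1]
          obtain ⟨a, -, -, ha, -⟩ := hy.exists_two_line hx L.2.1
          exact Set.not_disjoint_iff.mpr ⟨a, ha, ha⟩⟩)
        (fun s => ⟨s.2.1, s.2.2.1, Set.not_disjoint_iff.mpr
          ⟨s.1.1, (by have h' := Set.smul_mem_smul_set (a := t) s.2.2.2.1; rwa [s.1.2] at h'), s.2.2.2.1⟩⟩) :
        {L : Set Ω // IsLine x L ∧ ¬ Disjoint (t • L) L})) ⟨?_, ?_⟩).symm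
    · rintro (_ | ⟨L, hL, htL, hne⟩ | ⟨a, L, hL, haL, hne⟩) (_ | ⟨L', hL', htL', hne'⟩ | ⟨a', L', hL', haL', hne'⟩) e'
      · rfl
      · exact absurd (congrArg Subtype.val e').symm hne'
      · exact absurd (congrArg Subtype.val e').symm hne'
      · exact absurd (congrArg Subtype.val e') hne
      · obtain rfl : L = L' := congrArg Subtype.val e'
        rfl
      · obtain rfl : L = L' := congrArg Subtype.val e'
        exact absurd (hsub a') (hy.disjoint_of_invol hx htH ht ht1 hL htL hne haL')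
      · exact absurd (congrArg Subtype.val e') hne
      · obtain rfl : L = L' := congrArg Subtype.val e'
        exact absurd (hsub a) (hy.disjoint_of_invol hx htH ht ht1 hL htL' hne haL)
      · obtain rfl : L = L' := congrArg Subtype.val e'
        obtain rfl : a = a' := by
          by_contra h
          exact hne (hy.line_unique hx hL isLine_base (fun e => h (Subtype.ext e)) haL haL' (hsub a) (hsub a'))
        rfl
    · rintro ⟨L, hL, hd⟩
      by_cases h : L = base Ω x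
      · exact ⟨none, Subtype.ext h.symm⟩
      obtain ⟨w, hw', hw⟩ := Set.not_disjoint_iff.mp hd
      have htw : t • w ∈ L := by
        obtain ⟨w', hw'', rfl⟩ := hw'
        rwa [← mul_smul, ← pow_two, ht, one_smul]
      by_cases hf : t • w = w
      · exact ⟨some (Sum.inr ⟨⟨w, hf⟩, L, hL, hw, h⟩), rfl⟩
      · refine ⟨some (Sum.inl ⟨L, hL, ?_, h⟩), rfl⟩
        exact hy.line_unique hx (hL.smul t) hL (Ne.symm hf) hw'
          (Set.smul_mem_smul_set hw) hw htw
  rw [Finite.card_option, Nat.card_sum, hy.card_fixed_lines_eq hx htH ht ht1, Nat.card_sigma,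
    Finset.sum_congr rfl (fun a _ => hy.card_through_eq hx (hsub a)), Finset.sum_const, Finset.card_univ,
    smul_eq_mul, ← Nat.card_eq_fintype_card, hy.card_fix htH] at e1
  rw [add_assoc 1, add_comm 1, ← e1]
  exact (Nat.card_sum).symm.trans (Nat.card_congr
    { toFun := fun s => s.elim (fun L => ⟨L.1, L.2.1⟩) (fun L => ⟨L.1, L.2.1⟩)
      invFun := fun L => if h : Disjoint (t • L.1) L.1 then Sum.inl ⟨L.1, L.2, h⟩ else Sum.inr ⟨L.1, L.2, h⟩
      left_inv := fun s => by
        rcases s with L | L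
        · simp [L.2.2]
        · simp [L.2.2]
      right_inv := fun L => by
        dsimp only
        split <;> rfl })

/-- At most `q + 1` conjugates of an involution carry one line to a given disjoint one. -/
theorem card_carriers (T : Set G) (hT : ∀ τ ∈ T, τ ^ 2 = 1) {L L' : Set Ω} (hL : IsLine x L) (hL' : IsLine x L')
    (hd : Disjoint L' L) : Nat.card {τ : G // τ ∈ T ∧ τ • L = L'} ≤ p ^ n + 1 := by
  haveI := hy.finite_points
  obtain ⟨c, -, -, hc, -⟩ := hy.exists_two_line hx hL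
  rw [← hy.card_line hx hL']
  refine Nat.card_le_card_of_injective (fun τ => (⟨τ.1 • c, (Set.ext_iff.mp τ.2.2 _).mp (Set.smul_mem_smul_set hc)⟩ : ↥L')) ?_
  rintro ⟨τ, hτ, hτL⟩ ⟨τ', hτ', hτL'⟩ e
  refine Subtype.ext ?_
  have e' : τ • c = τ' • c := congrArg Subtype.val e
  have h2 : τ * τ = 1 := by rw [← pow_two]; exact hT τ hτ
  have h2' : τ' * τ' = 1 := by rw [← pow_two]; exact hT τ' hτ'
  show τ = τ'
  by_contra hne
  set y := τ * τ' with hy'
  have hy1 : y ≠ 1 := fun e1 => hne ((eq_inv_of_mul_eq_one_left e1).trans (inv_eq_of_mul_eq_one_right h2'))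
  have hτL2 : τ • L' = L := by rw [← hτL, ← mul_smul, h2, one_smul]
  have hyc : y ∈ stabilizer G c := by rw [mem_stabilizer_iff, hy', mul_smul, ← e', ← mul_smul, h2, one_smul]
  have hyL : y ∈ stabilizer G L := by rw [mem_stabilizer_iff, hy', mul_smul, hτL', hτL2]
  have hyL' : y ∈ stabilizer G L' := by
    rw [mem_stabilizer_iff, hy', mul_smul, show τ' • L' = L by rw [← hτL', ← mul_smul, h2', one_smul], hτL]
  have hr : (orderOf y).minFac.Prime := Nat.minFac_prime (fun e1 => hy1 (orderOf_eq_one_iff.mp e1))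
  set r := (orderOf y).minFac
  set w := y ^ (orderOf y / r) with hw
  have hwr : orderOf w = r := orderOf_pow_orderOf_div (orderOf_pos y).ne' (Nat.minFac_dvd _)
  have hwr' : w ^ r = 1 := hwr ▸ pow_orderOf_eq_one w
  have hw1 : w ≠ 1 := fun e1 => hr.ne_one (by rw [← hwr, e1, orderOf_one])
  have hwc : w • c = c := mem_stabilizer_iff.mp (pow_mem hyc _)
  have hwL : w • L = L := mem_stabilizer_iff.mp (pow_mem hyL _)
  have hwL' : w • L' = L' := mem_stabilizer_iff.mp (pow_mem hyL' _)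
  rcases eq_or_ne r p with hrp | hrp
  · obtain ⟨b, hb, hwb⟩ := hy.exists_fix_p hx (hrp ▸ hwr') hL' hwL'
    obtain rfl := hy.p_fix (hwr.trans hrp) hwc hwb
    exact Set.disjoint_left.mp hd hb hc
  · obtain ⟨b, hb, hbc, hwb⟩ := hy.second hx hr hrp hwr' hL hwL hc hwc
    have hinv : τ * y * τ⁻¹ = y⁻¹ := by
      rw [hy', mul_inv_rev, inv_eq_of_mul_eq_one_right h2, inv_eq_of_mul_eq_one_right h2', ← mul_assoc τ τ, h2,
        one_mul]
    have hwτ : w • τ • b = τ • b := by
      have e1 : τ * w * τ⁻¹ = w⁻¹ := by rw [hw, ← conj_pow, hinv, inv_pow]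
      calc w • τ • b = (τ * w * τ⁻¹)⁻¹ • τ • b := by rw [e1, inv_inv]
        _ = (τ * w⁻¹) • b := by rw [← mul_smul]; congr 1; group
        _ = τ • b := by rw [mul_smul, inv_smul_of_fix hwb]
    exact Set.disjoint_left.mp hd (hτL ▸ Set.smul_mem_smul_set hb)
      (hy.fix_two hx hw1 hL hbc hb hc hwb hwc hwτ)

/-- The involution of the torus fixes the base line pointwise. -/
theorem card_cu_invol {t : G} (htH : t ∈ H) (ht : t ^ 2 = 1) (ht1 : t ≠ 1) : Nat.card (cu U t) = p ^ n := by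
  classical
  haveI := hy.finite_points
  obtain ⟨a, han, ha⟩ := hy.cu_le_n htH ht1
  have hnz : nz t ≤ nz x := fun g hg => hy.mem_nz_of hx hy.ne (hy.o_mem hx) (hy.z_mem hx)
    (hy.fix_two hx ht1 isLine_base hy.ne (hy.o_mem hx) (hy.z_mem hx) (hy.H_fix_o htH) (hy.H_fix_z htH)
      (smul_mem_base hg (hy.H_fix_o htH)))
    (hy.fix_two hx ht1 isLine_base hy.ne (hy.o_mem hx) (hy.z_mem hx) (hy.H_fix_o htH) (hy.H_fix_z htH)
      (smul_mem_base hg (hy.H_fix_z htH)))
  have hdvd := Subgroup.card_dvd_of_le hnz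
  rw [hy.card_nz hx, nz, hy.card_norm htH ht1, ha] at hdvd
  have hdvd' := Nat.dvd_of_mul_dvd_mul_right Nat.card_pos hdvd
  rw [ha]
  rcases eq_or_lt_of_le han with rfl | halt
  · rfl
  exfalso
  have hfq : p ^ a = 1 ∨ (3 ≤ p ^ a ∧ (p ^ a) ^ 3 ≤ p ^ n) := by
    rcases Nat.eq_zero_or_pos a with rfl | ha0
    · exact Or.inl (pow_zero _)
    refine Or.inr ?_
    have hcop : Nat.Coprime (p ^ a + 1) (p ^ n) := by
      refine Nat.Coprime.pow_right _ (Nat.Coprime.symm ((Nat.Prime.coprime_iff_not_dvd hy.prime).mpr fun h => ?_))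
      exact hy.prime.ne_one (Nat.dvd_one.mp ((Nat.dvd_add_right (dvd_pow_self p ha0.ne')).mp h))
    obtain ⟨j, hj⟩ := exists_odd_mul hy.p3 ha0 n (hcop.dvd_of_dvd_mul_right (dvd_of_mul_right_dvd hdvd'))
    have hj1 : 1 ≤ j := by
      rcases Nat.eq_zero_or_pos j with rfl | h
      · omega
      · exact h
    have h3 : 3 * a ≤ n := by rw [hj]; exact Nat.mul_le_mul_right a (by omega)
    refine ⟨hy.p3.trans (Nat.le_self_pow ha0.ne' p), ?_⟩
    rw [← pow_mul]
    exact Nat.pow_le_pow_right hy.prime.pos (by omega : a * 3 ≤ n)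
  -- the conjugates
  set T : Set G := MulAction.orbit (ConjAct G) t with hT
  have hT2 : ∀ τ ∈ T, τ ^ 2 = 1 := by
    rintro _ ⟨g, rfl⟩
    show (g • t) ^ 2 = 1
    rw [ConjAct.smul_def, conj_pow, ht]; group
  have hTcard : Nat.card ↥T * ((p ^ a + 1) * p ^ a) = (p ^ (3 * n) + 1) * p ^ (3 * n) := by
    have h := Subgroup.index_mul_card (stabilizer (ConjAct G) t)
    rw [index_stabilizer, ← Nat.card_coe_set_eq, ← hT] at h
    have e : Nat.card (stabilizer (ConjAct G) t) = (p ^ a + 1) * p ^ a * Nat.card H := by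
      rw [← ha, ← hy.card_norm htH ht1]
      refine Nat.card_congr (Equiv.subtypeEquiv ConjAct.ofConjAct.toEquiv fun g => ?_)
      rw [mem_stabilizer_iff, ConjAct.smul_def]
      show ConjAct.ofConjAct g * t * (ConjAct.ofConjAct g)⁻¹ = t ↔ ConjAct.ofConjAct g ∈ nz t
      constructor
      · intro e
        refine Subgroup.centralizer_le_normalizer _ (Subgroup.mem_centralizer_iff.mpr fun y hy' => ?_)
        obtain ⟨i, rfl⟩ := Subgroup.mem_zpowers_iff.mp hy'
        exact (Commute.zpow_left (Commute.symm (mul_inv_eq_iff_eq_mul.mp e)) i).eq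
      · intro e
        obtain ⟨i, hi⟩ := Subgroup.mem_zpowers_iff.mp
          ((Subgroup.mem_normalizer_iff.mp e t).mp (Subgroup.mem_zpowers t))
        rcases Int.even_or_odd' i with ⟨k, rfl | rfl⟩
        · rw [zpow_mul, show t ^ (2 : ℤ) = 1 by rw [show (2 : ℤ) = ((2 : ℕ) : ℤ) from rfl, zpow_natCast, ht],
            one_zpow] at hi
          exact absurd (conj_eq_one_iff.mp hi.symm) ht1
        · rw [zpow_add, zpow_mul, show t ^ (2 : ℤ) = 1 by rw [show (2 : ℤ) = ((2 : ℕ) : ℤ) from rfl, zpow_natCast, ht],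
            one_zpow, one_mul, zpow_one] at hi
          exact hi.symm
    rw [e, show Nat.card (ConjAct G) = Nat.card G from Nat.card_congr ConjAct.ofConjAct.toEquiv, hy.card_G,
      ← mul_assoc (_ + 1), ← mul_assoc] at h
    exact Nat.eq_of_mul_eq_mul_right Nat.card_pos h
  set Lines := ↥(orbit G (base Ω x))
  haveI := Fintype.ofFinite ↥T
  haveI : Fintype Lines := Fintype.ofFinite _
  set D := Nat.card {L : Set Ω // IsLine x L ∧ Disjoint (t • L) L} with hD
  set Q := Nat.card {L : Set Ω // IsLine x L ∧ Disjoint (base Ω x) L} with hQ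
  have hDτ : ∀ τ : ↥T, Nat.card {L : Lines // Disjoint (τ.1 • L.1) L.1} = D := by
    rintro ⟨_, g, rfl⟩
    have hg : ∀ L : Set Ω, Disjoint ((g • t) • (ConjAct.ofConjAct g • L)) (ConjAct.ofConjAct g • L) ↔
        Disjoint (t • L) L := fun L => by
      rw [ConjAct.smul_def, mul_smul, inv_smul_smul, mul_smul, disjoint_smul]
    refine Nat.card_congr
      { toFun := fun L => ⟨(ConjAct.ofConjAct g)⁻¹ • L.1.1, IsLine.smul L.1.2 _, (hg _).mp (by
          rw [smul_inv_smul]; exact L.2)⟩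
        invFun := fun L => ⟨⟨ConjAct.ofConjAct g • L.1, IsLine.smul L.2.1 _⟩, (hg _).mpr L.2.2⟩
        left_inv := fun L => by simp
        right_inv := fun L => by simp }
  have hQL : ∀ L : Lines, Nat.card {L' : Lines // Disjoint L'.1 L.1} = Q := by
    rintro ⟨_, g, rfl⟩
    have hg : ∀ L : Set Ω, Disjoint (g • L) (g • base Ω x) ↔ Disjoint (base Ω x) L := fun L => by
      rw [disjoint_smul, disjoint_comm]
    refine Nat.card_congr
      { toFun := fun L => ⟨g⁻¹ • L.1.1, IsLine.smul L.1.2 _, (hg _).mp (by rw [smul_inv_smul]; exact L.2)⟩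
        invFun := fun L => ⟨⟨g • L.1, IsLine.smul L.2.1 _⟩, (hg _).mpr L.2.2⟩
        left_inv := fun L => by simp
        right_inv := fun L => by simp }
  have hle : Nat.card ↥T * D ≤ Nat.card Lines * (Q * (p ^ n + 1)) := by
    have e : Nat.card ↥T * D = Nat.card (Σ τ : ↥T, {L : Lines // Disjoint (τ.1 • L.1) L.1}) := by
      rw [Nat.card_sigma, Finset.sum_congr rfl (fun τ _ => hDτ τ), Finset.sum_const, Finset.card_univ, smul_eq_mul,
        ← Nat.card_eq_fintype_card]
    rw [e]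
    refine (Nat.card_le_card_of_injective
      (fun s : Σ τ : ↥T, {L : Lines // Disjoint (τ.1 • L.1) L.1} =>
        (⟨s.2.1, ⟨⟨s.1.1 • s.2.1.1, IsLine.smul s.2.1.2 _⟩, s.2.2⟩, ⟨s.1.1, s.1.2, rfl⟩⟩ :
          Σ L : Lines, Σ L' : {L' : Lines // Disjoint L'.1 L.1}, {τ : G // τ ∈ T ∧ τ • L.1 = L'.1.1})) ?_).trans ?_
    · rintro ⟨⟨τ, hτ⟩, L, hL⟩ ⟨⟨τ', hτ'⟩, L', hL'⟩ e'
      obtain ⟨rfl, e''⟩ := Sigma.mk.inj_iff.mp e'
      have e3 := eq_of_heq e''
      obtain rfl : τ = τ' := congrArg (fun s : Σ L' : {L' : Lines // Disjoint L'.1 L.1},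
        {τ : G // τ ∈ T ∧ τ • L.1 = L'.1.1} => s.2.1) e3
      rfl
    · rw [Nat.card_sigma, Nat.card_eq_fintype_card (α := Lines), ← Finset.card_univ]
      refine Finset.sum_le_card_nsmul _ _ _ fun L _ => ?_
      haveI := Fintype.ofFinite {L' : Lines // Disjoint L'.1 L.1}
      rw [Nat.card_sigma, ← hQL L, Nat.card_eq_fintype_card (α := {L' : Lines // Disjoint L'.1 L.1}),
        ← Finset.card_univ, ← smul_eq_mul]
      exact Finset.sum_le_card_nsmul _ _ _ fun L' _ => hy.card_carriers hx T hT2 L.2 L'.1.2 L'.2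
  -- the arithmetic
  have hb := hy.card_lines_eq hx
  have hD' := hy.card_moved hx htH ht ht1
  have hQ' := hy.card_disjoint_base hx
  rw [ha] at hD'
  rw [← hD] at hD'
  rw [← hQ] at hQ'
  rw [hy.pow_three_mul] at hTcard
  change Nat.card Lines + _ = _ at hb
  change _ = Nat.card Lines at hD' hQ'
  have h3 := hy.q3
  generalize Nat.card Lines = b at hb hD' hQ' hle
  generalize Nat.card ↥T = m at hTcard hle
  generalize p ^ n = q at hb hD' hQ' hle hTcard h3 hfq
  have hf1 : 1 ≤ p ^ a := Nat.one_le_pow _ _ hy.prime.pos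
  generalize p ^ a = f at hD' hTcard hf1 hfq
  have hqq : q ≤ q ^ 2 := Nat.le_self_pow (by norm_num) _
  have hq1 : 1 ≤ q ^ 2 := le_trans (by omega) hqq
  zify [hqq, hq1] at hb hD' hQ' hle hTcard hfq h3 hf1
  have hq0 : (0 : ℤ) < q := by omega
  have e1 : (m : ℤ) * ((f + 1) * f) = b * ((q + 1) * q) := by
    rw [hTcard, show (b : ℤ) = q ^ 4 + q ^ 2 - q ^ 3 by omega]; ring
  have hb0 : (0 : ℤ) < b := by nlinarith [mul_pos hq0 hq0]
  have h4 : (b : ℤ) * (((q : ℤ) + 1) * q * D) ≤ (b : ℤ) * (((q : ℤ) + 1) * (((f : ℤ) + 1) * f * Q)) := by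
    calc (b : ℤ) * ((q + 1) * q * D) = m * D * ((f + 1) * f) := by rw [mul_right_comm (m : ℤ), e1]; ring
      _ ≤ b * (Q * (q + 1)) * ((f + 1) * f) := mul_le_mul_of_nonneg_right hle (by positivity)
      _ = _ := by ring
  have h5 := le_of_mul_le_mul_left h4 hb0
  rw [mul_assoc] at h5
  have h6 := le_of_mul_le_mul_left h5 (by omega)
  have hQv : (Q : ℤ) = q * (q - 1) * (q ^ 2 - q - 1) := by linear_combination hQ' + hb
  have hDv : (D : ℤ) = (q ^ 2 - 1) * (q ^ 2 - q - f) := by linear_combination hD' + hb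
  rw [hQv, hDv] at h6
  refine count_false h3 hf1 hfq ?_
  refine le_of_mul_le_mul_left ?_ (mul_pos hq0 (show (0 : ℤ) < q - 1 by omega))
  linear_combination h6

end Hyp

end CfsgLib.U3BN
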