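import Cfsg.Agent.Lib.U3BN.Count

/-!
# The centraliser of the involution on its line and the kernel
-/

set_option autoImplicit false
set_option linter.unusedSectionVars false

namespace CfsgLib.U3BN

open MulAction Pointwise

universe u v

variable {G : Type u} {Ω : Type v} [Group G] [MulAction G Ω] {o z : Ω} {U H : Subgroup G} {p n : ℕ} {t : G}

/-- The involution with the special element. -/
structure Frame (U H : Subgroup G) (p n : ℕ) (t : G) : Prop where
  mem : t ∈ H
  sq : t ^ 2 = 1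
  ne : t ≠ 1
  ex : ∃ x, Special U H p n x ∧ cu U t = cu U x

/-- The kernel of the centraliser on the line. -/
def ker0 (U H : Subgroup G) (t : G) : Subgroup G := H ⊓ Subgroup.centralizer (cu U t : Set G)

theorem mem_ker0 {k : G} : k ∈ ker0 U H t ↔ k ∈ H ∧ ∀ m ∈ cu U t, m * k = k * m := by
  rw [ker0, Subgroup.mem_inf, Subgroup.mem_centralizer_iff]; rfl

/-- An involution of the class of `t` commuting with `t`, other than `t`. -/
def IsFlip (t v : G) : Prop := (∃ g, v = g * t * g⁻¹) ∧ v * t = t * v ∧ v ≠ t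

theorem dvd_card_of_free {K X : Type*} [Group K] [Finite K] [MulAction K X] [Finite X]
    (h : ∀ (k : K) (w : X), k • w = w → k = 1) : Nat.card K ∣ Nat.card X := by
  classical
  haveI := Fintype.ofFinite (orbitRel.Quotient K X)
  rw [Nat.card_congr (selfEquivSigmaOrbits K X), Nat.card_sigma]
  refine Finset.dvd_sum fun w _ => dvd_of_eq ?_
  rw [Nat.card_coe_set_eq, ← index_stabilizer,
    (Subgroup.eq_bot_iff_forall _).mpr fun k hk => h k _ (mem_stabilizer_iff.mp hk), Subgroup.index_bot]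

namespace Hyp

variable [Finite G] (hy : Hyp G Ω o z U H p n)
include hy

theorem exists_frame : ∃ t, Frame U H p n t := by
  haveI := Fact.mk Nat.prime_two
  obtain ⟨x, hx⟩ := hy.exists_special
  obtain ⟨⟨t, htH⟩, ht⟩ := exists_prime_orderOf_dvd_card' (G := H) 2 hy.even_H
  rw [Subgroup.orderOf_mk] at ht
  have ht1 : t ≠ 1 := fun e => by rw [e, orderOf_one] at ht; omega
  have ht2 : t ^ 2 = 1 := ht ▸ pow_orderOf_eq_one t
  exact ⟨t, htH, ht2, ht1, x, hx, Subgroup.eq_of_le_of_card_ge (hx.le t htH ht1)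
    (by rw [hx.card_cu, hy.card_cu_invol hx htH ht2 ht1])⟩

variable (hf : Frame U H p n t)
include hf

theorem t_inv : t⁻¹ = t := inv_eq_of_mul_eq_one_right (by rw [← pow_two, hf.sq])

theorem card_M : Nat.card (cu U t) = p ^ n := by
  obtain ⟨x, hx, e⟩ := hf.ex
  rw [e, hx.card_cu]

theorem le_M {k : G} (hk : k ∈ H) (hk1 : k ≠ 1) : cu U k ≤ cu U t := by
  obtain ⟨x, hx, e⟩ := hf.ex
  exact (hx.le k hk hk1).trans e.ge

theorem special_t : ∃ x, Special U H p n x ∧ base Ω x = base Ω t ∧ nz x = Subgroup.centralizer {t} := by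
  obtain ⟨x, hx, e⟩ := hf.ex
  haveI := hy.finite_points
  have hsub : base Ω t ⊆ base Ω x := fun w hw => hy.fix_two hx hf.ne isLine_base hy.ne (hy.o_mem hx) (hy.z_mem hx)
    (hy.H_fix_o hf.mem) (hy.H_fix_z hf.mem) hw
  have hbase : base Ω x = base Ω t := (Set.eq_of_subset_of_ncard_le hsub (by
    rw [← Nat.card_coe_set_eq, ← Nat.card_coe_set_eq, hy.card_base hx]
    exact le_of_eq ((hy.card_fix hf.mem).trans (by rw [hy.card_M hf])).symm)).symm
  have hC : Subgroup.centralizer {t} = nz t := by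
    refine le_antisymm (fun g hg => Subgroup.centralizer_le_normalizer _
      (Subgroup.mem_centralizer_iff.mpr fun y hy' => ?_)) fun g hg => Subgroup.mem_centralizer_singleton_iff.mpr ?_
    · obtain ⟨i, rfl⟩ := Subgroup.mem_zpowers_iff.mp hy'
      exact (Commute.zpow_left (Subgroup.mem_centralizer_singleton_iff.mp hg).symm i).eq
    · obtain ⟨i, hi⟩ := Subgroup.mem_zpowers_iff.mp
        ((Subgroup.mem_normalizer_iff.mp hg t).mp (Subgroup.mem_zpowers t))
      rcases Int.even_or_odd' i with ⟨k, rfl | rfl⟩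
      · rw [zpow_mul, show t ^ (2 : ℤ) = 1 by rw [show (2 : ℤ) = ((2 : ℕ) : ℤ) from rfl, zpow_natCast, hf.sq],
          one_zpow] at hi
        exact absurd (conj_eq_one_iff.mp hi.symm) hf.ne
      · rw [zpow_add, zpow_mul, show t ^ (2 : ℤ) = 1 by rw [show (2 : ℤ) = ((2 : ℕ) : ℤ) from rfl, zpow_natCast, hf.sq],
          one_zpow, one_mul, zpow_one] at hi
        exact mul_inv_eq_iff_eq_mul.mp hi.symm
  refine ⟨x, hx, hbase, ?_⟩
  rw [hC]
  symm
  refine Subgroup.eq_of_le_of_card_ge (fun g hg => ?_) (by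
    rw [hy.card_nz hx, nz, hy.card_norm hf.mem hf.ne, hy.card_M hf])
  refine (hy.smul_base_iff hx).mp ?_
  rw [hbase]
  exact Set.eq_of_subset_of_ncard_le (fun w hw => by
    obtain ⟨a, ha, rfl⟩ := hw
    exact smul_mem_base hg ha) (Set.ncard_smul_set g _).ge

theorem smul_baseT {g : G} : g • base Ω t = base Ω t ↔ g * t = t * g := by
  obtain ⟨x, hx, hb, hn⟩ := hy.special_t hf
  rw [← hb, hy.smul_base_iff hx, hn, Subgroup.mem_centralizer_singleton_iff]

theorem M_mem_base {m : G} (hm : m ∈ cu U t) : m • z ∈ base Ω t :=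
  (hy.fix_iff hf.mem (mem_cu.mp hm).1).mpr (mem_cu.mp hm).2

theorem base_mem {w : Ω} (hw : w ∈ base Ω t) (ho : w ≠ o) : ∃ m ∈ cu U t, m • z = w := by
  obtain ⟨u, hu, rfl⟩ := hy.reg w ho
  exact ⟨u, mem_cu.mpr ⟨hu, (hy.fix_iff hf.mem hu).mp hw⟩, rfl⟩

theorem o_baseT : o ∈ base Ω t := hy.H_fix_o hf.mem
theorem z_baseT : z ∈ base Ω t := hy.H_fix_z hf.mem

omit hf in
theorem comm_t_H {h : G} (hf : Frame U H p n t) (hh : h ∈ H) : h * t = t * h := hy.comm_H hh hf.mem

/-- Two fixed points of `t` are the images of the base points under the centraliser. -/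
theorem cent_to {a b : Ω} (hab : a ≠ b) (ha : a ∈ base Ω t) (hb : b ∈ base Ω t) :
    ∃ g, g * t = t * g ∧ g • o = a ∧ g • z = b := by
  obtain ⟨x, hx, hbe, hn⟩ := hy.special_t hf
  rw [← hbe] at ha hb
  obtain ⟨g, ga, gb, gN⟩ := hy.exists_norm hx.mem hab ha hb
  exact ⟨g, Subgroup.mem_centralizer_singleton_iff.mp (hn ▸ (gN : g ∈ nz x)), ga, gb⟩

/-- The stabiliser of the base point in the centraliser. -/
theorem cent_decomp {g : G} (hg : g * t = t * g) (ho : g • o = o) : ∃ m ∈ cu U t, ∃ h ∈ H, g = m * h := by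
  obtain ⟨u, hu, h, hh, rfl⟩ := hy.decomp ho
  refine ⟨u, mem_cu.mpr ⟨hu, ?_⟩, h, hh, rfl⟩
  exact mul_right_cancel (b := h) (by rw [mul_assoc, ← hg, mul_assoc, hy.comm_t_H hf hh, ← mul_assoc])

theorem ker0_iff {g : G} : g ∈ ker0 U H t ↔ ∀ w ∈ base Ω t, g • w = w := by
  constructor
  · intro hg w hw
    by_cases ho : w = o
    · rw [ho, hy.H_fix_o (mem_ker0.mp hg).1]
    obtain ⟨m, hm, rfl⟩ := hy.base_mem hf hw ho
    exact (hy.fix_iff (mem_ker0.mp hg).1 (mem_cu.mp hm).1).mpr ((mem_ker0.mp hg).2 m hm).symm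
  · intro hg
    have hH : g ∈ H := (hy.mem_H g).mpr ⟨hg o (hy.o_baseT hf), hg z (hy.z_baseT hf)⟩
    exact mem_ker0.mpr ⟨hH, fun m hm => ((hy.fix_iff hH (mem_cu.mp hm).1).mp (hg _ (hy.M_mem_base hf hm))).symm⟩

theorem ker0_conj {g k : G} (hg : g * t = t * g) (hk : k ∈ ker0 U H t) : g * k * g⁻¹ ∈ ker0 U H t := by
  rw [hy.ker0_iff hf]
  intro w hw
  rw [mul_smul, mul_smul, (hy.ker0_iff hf).mp hk _ ?_, smul_inv_smul]
  have hg' : g⁻¹ * t = t * g⁻¹ := (Commute.inv_left (show Commute g t from hg)).eq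
  exact Set.mem_smul_set_iff_inv_smul_mem.mp (((hy.smul_baseT hf).mpr hg).symm ▸ hw)

/-- The kernel is central in the centraliser. -/
theorem ker0_central {g k : G} (hg : g * t = t * g) (hk : k ∈ ker0 U H t) : g * k = k * g := by
  classical
  haveI := hy.finite_points
  -- conjugates of `M` centralise the kernel
  have hconj : ∀ g : G, g * t = t * g → ∀ m ∈ cu U t, (g * m * g⁻¹) * k = k * (g * m * g⁻¹) := fun g hg m hm => by
    have hg' : g⁻¹ * t = t * g⁻¹ := (Commute.inv_left (show Commute g t from hg)).eq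
    have h := (mem_ker0.mp (hy.ker0_conj hf hg' hk)).2 m hm
    rw [inv_inv] at h
    calc g * m * g⁻¹ * k = g * (m * (g⁻¹ * k * g)) * g⁻¹ := by group
      _ = g * (g⁻¹ * k * g * m) * g⁻¹ := by rw [h]
      _ = k * (g * m * g⁻¹) := by group
  set S : Subgroup G := Subgroup.centralizer {k} ⊓ Subgroup.centralizer {t} with hS
  have hM : ∀ m ∈ cu U t, m ∈ S := fun m hm => ⟨Subgroup.mem_centralizer_singleton_iff.mpr ((mem_ker0.mp hk).2 m hm),
    Subgroup.mem_centralizer_singleton_iff.mpr (mem_cu.mp hm).2.symm⟩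
  obtain ⟨w0, hw0, hw0o, hw0z⟩ : ∃ w ∈ base Ω t, w ≠ o ∧ w ≠ z := by
    have hlt : ({o, z} : Set Ω).ncard < (base Ω t).ncard := by
      rw [Set.ncard_pair hy.ne, ← Nat.card_coe_set_eq, show Nat.card ↥(base Ω t) = p ^ n + 1 from
        (hy.card_fix hf.mem).trans (by rw [hy.card_M hf])]
      have := hy.q3; omega
    obtain ⟨w, hw, hw'⟩ := Set.exists_mem_notMem_of_ncard_lt_ncard hlt
    simp only [Set.mem_insert_iff, Set.mem_singleton_iff, not_or] at hw'
    exact ⟨w, hw, hw'⟩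
  obtain ⟨v, hv, hvo, hvz⟩ := hy.cent_to hf hy.ne.symm (hy.z_baseT hf) (hy.o_baseT hf)
  have hreach : ∀ a ∈ base Ω t, a ≠ z → ∃ s ∈ S, s • o = a := fun a ha haz => by
    have hv' : v⁻¹ * t = t * v⁻¹ := (Commute.inv_left (show Commute v t from hv)).eq
    obtain ⟨m, hm, e⟩ := hy.base_mem hf (w := v⁻¹ • a)
      (Set.mem_smul_set_iff_inv_smul_mem.mp (((hy.smul_baseT hf).mpr hv).symm ▸ ha))
      (fun e => haz (by rw [← smul_inv_smul v a, e, hvo]))
    refine ⟨v * m * v⁻¹, ⟨Subgroup.mem_centralizer_singleton_iff.mpr (hconj v hv m hm),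
      Subgroup.mem_centralizer_singleton_iff.mpr ?_⟩, ?_⟩
    · exact (((show Commute v t from hv).mul_left (mem_cu.mp hm).2.symm).mul_left hv').eq
    · rw [mul_smul, mul_smul, inv_smul_eq_iff.mpr hvz.symm, e, smul_inv_smul]
  have hall : ∀ a ∈ base Ω t, ∃ s ∈ S, s • o = a := fun a ha => by
    by_cases haz : a = z
    · obtain ⟨s, hs, e⟩ := hreach w0 hw0 hw0z
      obtain ⟨m, hm, e'⟩ := hy.base_mem hf hw0 hw0o
      refine ⟨m⁻¹ * s, mul_mem (inv_mem (hM m hm)) hs, ?_⟩
      rw [mul_smul, e, ← e', inv_smul_smul, haz]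
    · exact hreach a ha haz
  obtain ⟨s, hs, e⟩ := hall (g • o) (((hy.smul_baseT hf).mpr hg) ▸ Set.smul_mem_smul_set (hy.o_baseT hf))
  have hst : s⁻¹ * g * t = t * (s⁻¹ * g) :=
    ((Commute.inv_left (show Commute s t from Subgroup.mem_centralizer_singleton_iff.mp hs.2)).mul_left hg).eq
  obtain ⟨m, hm, h, hh, e'⟩ := hy.cent_decomp hf hst (by rw [mul_smul, ← e, inv_smul_smul])
  have hgS : g = s * (m * h) := by rw [← e']; group
  have : g ∈ Subgroup.centralizer {k} := by
    rw [hgS]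
    exact mul_mem hs.1 (mul_mem (hM m hm).1
      (Subgroup.mem_centralizer_singleton_iff.mpr (hy.comm_H hh (mem_ker0.mp hk).1)))
  exact Subgroup.mem_centralizer_singleton_iff.mp this

theorem t_mem_ker0 : t ∈ ker0 U H t := (hy.ker0_iff hf).mpr fun _ hw => hw

/-- An element of the centraliser fixing a point on the line and one outside is trivial. -/
theorem semireg {g : G} (hg : g * t = t * g) {a c : Ω} (ha : a ∈ base Ω t) (hc : c ∉ base Ω t) (ga : g • a = a)
    (gc : g • c = c) : g = 1 := by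
  obtain ⟨x, hx, hb, -⟩ := hy.special_t hf
  by_contra hg1
  have hgL : g • base Ω t = base Ω t := (hy.smul_baseT hf).mpr hg
  have hr : (orderOf g).minFac.Prime := Nat.minFac_prime (fun e1 => hg1 (orderOf_eq_one_iff.mp e1))
  set r := (orderOf g).minFac
  set w := g ^ (orderOf g / r) with hw
  have hwr : orderOf w = r := orderOf_pow_orderOf_div (orderOf_pos g).ne' (Nat.minFac_dvd _)
  have hwr' : w ^ r = 1 := hwr ▸ pow_orderOf_eq_one w
  have hw1 : w ≠ 1 := fun e1 => hr.ne_one (by rw [← hwr, e1, orderOf_one])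
  have hwa : w • a = a := mem_stabilizer_iff.mp (pow_mem (mem_stabilizer_iff.mpr ga) _)
  have hwc : w • c = c := mem_stabilizer_iff.mp (pow_mem (mem_stabilizer_iff.mpr gc) _)
  have hwL : w • base Ω t = base Ω t := mem_stabilizer_iff.mp (pow_mem (mem_stabilizer_iff.mpr hgL) _)
  rw [← hb] at ha hc hwL
  rcases eq_or_ne r p with hrp | hrp
  · exact hc (hy.p_fix (hwr.trans hrp) hwa hwc ▸ ha)
  · obtain ⟨b, hbL, hba, hwb⟩ := hy.second hx hr hrp hwr' isLine_base hwL ha hwa
    exact hc (hy.fix_two hx hw1 isLine_base hba.symm ha hbL hwa hwb hwc)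

theorem exists_flip : ∃ v, IsFlip t v := by
  obtain ⟨x, hx, hb, -⟩ := hy.special_t hf
  have h := hy.card_fixed_lines_eq hx hf.mem hf.sq hf.ne
  have hpos : 0 < (p ^ n) ^ 2 - p ^ n := by
    have := hy.q3
    have : 3 * p ^ n ≤ (p ^ n) ^ 2 := by rw [pow_two]; exact Nat.mul_le_mul_right _ this
    omega
  rw [← h] at hpos
  obtain ⟨⟨L, hL, htL, hne⟩⟩ := (Nat.card_pos_iff.mp hpos).1
  obtain ⟨g, rfl⟩ := hL
  dsimp only at htL hne
  rw [hb] at htL hne
  refine ⟨g * t * g⁻¹, ⟨g, rfl⟩, ?_, fun e => hne ((hy.smul_baseT hf).mpr (mul_inv_eq_iff_eq_mul.mp e))⟩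
  have h1 : (g⁻¹ * t * g) * t = t * (g⁻¹ * t * g) := (hy.smul_baseT hf).mp (by
    rw [mul_smul, mul_smul, htL, inv_smul_smul])
  calc g * t * g⁻¹ * t = g * (t * (g⁻¹ * t * g)) * g⁻¹ := by group
    _ = g * (g⁻¹ * t * g * t) * g⁻¹ := by rw [h1]
    _ = t * (g * t * g⁻¹) := by group

/-- The line of a flip. -/
theorem flip_line {v g : G} (hv : IsFlip t v) (hg : v = g * t * g⁻¹) :
    t • (g • base Ω t) = g • base Ω t ∧ g • base Ω t ≠ base Ω t ∧ ∀ w ∈ g • base Ω t, w ∉ base Ω t := by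
  obtain ⟨x, hx, hb, -⟩ := hy.special_t hf
  have h1 : (g⁻¹ * t * g) * t = t * (g⁻¹ * t * g) := by
    have h := hv.2.1
    rw [hg] at h
    calc g⁻¹ * t * g * t = g⁻¹ * (t * (g * t * g⁻¹)) * g := by group
      _ = g⁻¹ * (g * t * g⁻¹ * t) * g := by rw [h]
      _ = _ := by group
  have h2 : t • (g • base Ω t) = g • base Ω t := by
    have h := (hy.smul_baseT hf).mpr h1
    rwa [mul_smul, mul_smul, inv_smul_eq_iff] at h
  have h3 : g • base Ω t ≠ base Ω t := fun e => hv.2.2 (by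
    rw [hg, (hy.smul_baseT hf).mp e, mul_inv_cancel_right])
  refine ⟨h2, h3, fun w hw => ?_⟩
  rw [← hb] at h2 h3 hw ⊢
  exact hy.disjoint_of_invol hx hf.mem hf.sq hf.ne (isLine_base.smul g) h2 h3 hw

theorem flip_moves {v : G} (hv : IsFlip t v) {a : Ω} (ha : a ∈ base Ω t) : v • a ≠ a := fun e => by
  obtain ⟨g, hg⟩ := hv.1
  refine (hy.flip_line hf hv hg).2.2 a (Set.mem_smul_set_iff_inv_smul_mem.mpr ?_) ha
  show t • g⁻¹ • a = g⁻¹ • a
  rw [hg, mul_smul, mul_smul] at e
  exact eq_inv_smul_iff.mpr e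

/-- The point stabiliser in the centraliser of a flip. -/
theorem card_flip_stab {v : G} (hv : IsFlip t v) {a : Ω} (ha : a ∈ base Ω t) :
    Nat.gcd 3 (p ^ n + 1) *
      Nat.card ↥(stabilizer G a ⊓ Subgroup.centralizer {t} ⊓ Subgroup.centralizer {v}) = p ^ n + 1 := by
  classical
  haveI := hy.finite_points
  obtain ⟨x, hx, hb, hn⟩ := hy.special_t hf
  obtain ⟨g, hg⟩ := hv.1
  set C := Subgroup.centralizer ({t} : Set G)
  set E := stabilizer G a ⊓ C ⊓ Subgroup.centralizer {v} with hE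
  have hEv : ∀ e ∈ E, e * v = v * e := fun e he => Subgroup.mem_centralizer_singleton_iff.mp he.2
  have hEt : ∀ e ∈ E, e * t = t * e := fun e he => Subgroup.mem_centralizer_singleton_iff.mp he.1.2
  have hEL : ∀ e ∈ E, e • (g • base Ω t) = g • base Ω t := fun e he => by
    have h1 : (g⁻¹ * e * g) * t = t * (g⁻¹ * e * g) := by
      have h := hEv e he
      rw [hg] at h
      calc g⁻¹ * e * g * t = g⁻¹ * (e * (g * t * g⁻¹)) * g := by group
        _ = g⁻¹ * (g * t * g⁻¹ * e) * g := by rw [h]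
        _ = _ := by group
    have h := (hy.smul_baseT hf).mpr h1
    rwa [mul_smul, mul_smul, inv_smul_eq_iff] at h
  -- it divides `q + 1`
  let X : SubMulAction E Ω :=
    { carrier := g • base Ω t
      smul_mem' := fun e w hw => (Set.ext_iff.mp (hEL e.1 e.2) _).mp (Set.smul_mem_smul_set hw) }
  have hd1 : Nat.card E ∣ p ^ n + 1 := by
    have h := dvd_card_of_free (K := E) (X := X) fun e w hew => Subtype.ext (hy.semireg hf (hEt _ e.2) ha
      ((hy.flip_line hf hv hg).2.2 _ w.2) e.2.1.1 (congrArg Subtype.val hew))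
    rwa [show Nat.card X = p ^ n + 1 from by
      show Nat.card ↥(g • base Ω t) = _
      rw [Set.natCard_smul_set, ← hb, hy.card_base hx]] at h
  -- it fixes the image of the point
  have hd2 : Nat.card E ∣ Nat.card H := by
    obtain ⟨d, da, dv⟩ := hy.exists_to (hy.flip_moves hf hv ha).symm
    rw [Nat.card_congr (Subgroup.equivMapOfInjective E (MulAut.conj d⁻¹).toMonoidHom (MulAut.conj d⁻¹).injective).toEquiv]
    refine Subgroup.card_dvd_of_le ?_
    rintro _ ⟨e, he, rfl⟩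
    have hea : e • a = a := he.1.1
    simpa using hy.conj_H (g := d) (a := e) (by rw [da]; exact hea)
      (by rw [dv, ← mul_smul, hEv e he, mul_smul, hea])
  -- the flips are few
  have hle : Nat.card C ≤ Nat.card ↥(C ⊓ Subgroup.centralizer {v}) * ((p ^ n) ^ 2 - p ^ n) := by
    set O : Set G := {w | ∃ c ∈ C, w = c * v * c⁻¹} with hO
    have hcard : Nat.card C = Nat.card ↥O * Nat.card ↥(C ⊓ Subgroup.centralizer {v}) := by
      haveI := Fintype.ofFinite ↥O
      have e : Nat.card C = Nat.card (Σ w : ↥O, {c : C // (c : G) * v * (c : G)⁻¹ = w}) :=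
        Nat.card_congr
          { toFun := fun c => ⟨⟨_, c.1, c.2, rfl⟩, c, rfl⟩
            invFun := fun s => s.2.1
            left_inv := fun _ => rfl
            right_inv := fun s => by
              obtain ⟨⟨w, hw⟩, c, hc⟩ := s
              dsimp only at hc
              subst hc
              rfl }
      rw [e, Nat.card_sigma, Finset.sum_congr rfl (fun w _ => show _ = Nat.card ↥(C ⊓ Subgroup.centralizer {v}) from ?_),
        Finset.sum_const, Finset.card_univ, smul_eq_mul, ← Nat.card_eq_fintype_card]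
      obtain ⟨_, c0, hc0, rfl⟩ := w
      refine Nat.card_congr
        { toFun := fun c => ⟨c0⁻¹ * (c.1 : G), C.mul_mem (C.inv_mem hc0) c.1.2,
            Subgroup.mem_centralizer_singleton_iff.mpr ?_⟩
          invFun := fun d => ⟨⟨c0 * d.1, mul_mem hc0 d.2.1⟩, ?_⟩
          left_inv := fun c => Subtype.ext (Subtype.ext (mul_inv_cancel_left _ _))
          right_inv := fun d => Subtype.ext (inv_mul_cancel_left _ _) }
      · have h := c.2
        calc c0⁻¹ * (c.1 : G) * v = c0⁻¹ * ((c.1 : G) * v * (c.1 : G)⁻¹) * c.1 := by group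
          _ = c0⁻¹ * (c0 * v * c0⁻¹) * c.1 := by rw [h]
          _ = v * (c0⁻¹ * c.1) := by group
      · have h : (d.1 : G) * v = v * d.1 := Subgroup.mem_centralizer_singleton_iff.mp d.2.2
        show c0 * (d.1 : G) * v * (c0 * (d.1 : G))⁻¹ = c0 * v * c0⁻¹
        calc c0 * (d.1 : G) * v * (c0 * (d.1 : G))⁻¹ = c0 * ((d.1 : G) * v) * (d.1 : G)⁻¹ * c0⁻¹ := by group
          _ = _ := by rw [h]; group
    rw [hcard, mul_comm]
    refine Nat.mul_le_mul_left _ ?_
    rw [← hy.card_fixed_lines_eq hx hf.mem hf.sq hf.ne]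
    refine Nat.card_le_card_of_injective (fun w : ↥O => (⟨(w.2.choose * g) • base Ω x, isLine_base.smul _, ?_⟩ :
      {L : Set Ω // IsLine x L ∧ t • L = L ∧ L ≠ base Ω x})) ?_
    · obtain ⟨hc, -⟩ := w.2.choose_spec
      have hcb := (hy.smul_baseT hf).mpr (Subgroup.mem_centralizer_singleton_iff.mp hc)
      rw [hb, mul_smul]
      refine ⟨?_, fun e => (hy.flip_line hf hv hg).2.1 (smul_left_cancel _ (e.trans hcb.symm))⟩
      rw [← mul_smul, ← Subgroup.mem_centralizer_singleton_iff.mp hc, mul_smul, (hy.flip_line hf hv hg).1]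
    · intro w w' e
      obtain ⟨hc, ew⟩ := w.2.choose_spec
      obtain ⟨hc', ew'⟩ := w'.2.choose_spec
      refine Subtype.ext (ew.trans (Eq.trans ?_ ew'.symm))
      have e' : (w.2.choose * g) • base Ω t = (w'.2.choose * g) • base Ω t := by
        rw [← hb]; exact congrArg Subtype.val e
      have h3 := (hy.smul_baseT hf).mp (show ((w'.2.choose * g)⁻¹ * (w.2.choose * g)) • base Ω t = base Ω t by
        rw [mul_smul, e', inv_smul_smul])
      generalize w.2.choose = c1 at h3 ⊢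
      generalize w'.2.choose = c2 at h3 ⊢
      rw [hg]
      calc c1 * (g * t * g⁻¹) * c1⁻¹ = c2 * g * (((c2 * g)⁻¹ * (c1 * g)) * t) * (c1 * g)⁻¹ := by group
        _ = c2 * g * (t * ((c2 * g)⁻¹ * (c1 * g))) * (c1 * g)⁻¹ := by rw [h3]
        _ = _ := by group
  -- the orbit of the point is small
  have horb : Nat.card ↥(C ⊓ Subgroup.centralizer {v}) ≤ (p ^ n + 1) * Nat.card E := by
    set D := C ⊓ Subgroup.centralizer {v}
    have h := Subgroup.index_mul_card (stabilizer D a)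
    rw [index_stabilizer] at h
    have hs : Nat.card (stabilizer D a) = Nat.card E := Nat.card_congr
      { toFun := fun d => ⟨d.1.1, ⟨mem_stabilizer_iff.mpr (mem_stabilizer_iff.mp d.2), d.1.2.1⟩, d.1.2.2⟩
        invFun := fun e => ⟨⟨e.1, e.2.1.2, e.2.2⟩, e.2.1.1⟩
        left_inv := fun _ => rfl
        right_inv := fun _ => rfl }
    rw [← h, hs]
    refine Nat.mul_le_mul_right _ ?_
    rw [← hy.card_base hx, ← Nat.card_coe_set_eq]
    refine Nat.card_le_card_of_injective (Set.inclusion (s := orbit D a) (t := base Ω x) ?_)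
      (Set.inclusion_injective _)
    rintro _ ⟨⟨d, hd, -⟩, rfl⟩
    rw [hb] at *
    exact (Set.ext_iff.mp ((hy.smul_baseT hf).mpr (Subgroup.mem_centralizer_singleton_iff.mp hd)) _).mp
      (Set.smul_mem_smul_set ha)
  -- arithmetic
  have hC : Nat.card C = (p ^ n + 1) * p ^ n * Nat.card H := by
    rw [show C = nz x from hn.symm, hy.card_nz hx]
  have hH := hy.cardH
  rw [hy.pow_two_mul] at hH
  have h3 := hy.q3
  obtain ⟨k1, hk1⟩ := hd1
  obtain ⟨k2, hk2⟩ := hd2
  have key := hle.trans (Nat.mul_le_mul_right _ horb)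
  rw [hC] at key
  rcases hy.dd_cases with hdd | hdd
  · rw [hdd] at hH ⊢
    rw [one_mul] at hH ⊢
    generalize p ^ n = q at hk1 hk2 key hH h3 ⊢
    have hq1 : 1 ≤ q ^ 2 := Nat.one_le_pow _ _ (by omega)
    have hqq : q ≤ q ^ 2 := Nat.le_self_pow (by norm_num) _
    zify [hq1, hqq] at key hH hk1 hk2 h3 ⊢
    have hE0 : (0 : ℤ) < Nat.card E := by exact_mod_cast Nat.card_pos
    rw [hH] at key
    have h5 : ((q : ℤ) + 1) * (q * (q - 1)) * (q + 1) ≤ ((q : ℤ) + 1) * (q * (q - 1)) * Nat.card E := by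
      linear_combination key
    have h6 := le_of_mul_le_mul_left h5 (mul_pos (by omega) (mul_pos (by omega) (by omega)))
    have h7 : (Nat.card E : ℤ) ≤ q + 1 := by
      rw [hk1]; exact le_mul_of_one_le_right hE0.le (by nlinarith)
    omega
  · have h33 : 3 ∣ p ^ n + 1 := hdd ▸ Nat.gcd_dvd_right 3 _
    rw [hdd] at hH ⊢
    generalize p ^ n = q at hk1 hk2 key hH h3 h33 ⊢
    obtain ⟨k, hk⟩ := h33
    have hq1 : 1 ≤ q ^ 2 := Nat.one_le_pow _ _ (by omega)
    have hqq : q ≤ q ^ 2 := Nat.le_self_pow (by norm_num) _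
    zify [hq1, hqq] at key hH hk1 hk2 h3 hk ⊢
    have hE0 : (0 : ℤ) < Nat.card E := by exact_mod_cast Nat.card_pos
    have h5 : ((q : ℤ) + 1) * (q * (q - 1)) * (q + 1) ≤ ((q : ℤ) + 1) * (q * (q - 1)) * (3 * Nat.card E) := by
      linear_combination (3 : ℤ) * key - ((q : ℤ) + 1) * (q : ℤ) * hH
    have h6 := le_of_mul_le_mul_left h5 (mul_pos (by omega) (mul_pos (by omega) (by omega)))
    -- `3 |E|` divides `(q + 1) (q - 1)` and `3 (q + 1)`
    have e1 : (3 : ℤ) * Nat.card E * k2 = (q + 1) * (q - 1) := by rw [mul_assoc, ← hk2, hH]; ring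
    have e2 : (3 : ℤ) * Nat.card E * k1 = 3 * (q + 1) := by rw [mul_assoc, ← hk1]
    have hdvd : (3 : ℤ) * Nat.card E ∣ q + 1 := by
      refine ⟨k1 + k2 - k * k1, ?_⟩
      linear_combination ((k : ℤ) - 1) * e2 - e1 - ((q : ℤ) + 1) * hk
    have h7 := Int.le_of_dvd (by omega) hdvd
    omega

omit hf in
/-- `g ^ (p - 1)` centralises a group of order `p` normalised by `g`. -/
theorem pow_fix {g u : G} (hu : orderOf u = p) (hg : g * u * g⁻¹ ∈ Subgroup.zpowers u) :
    g ^ (p - 1) * u = u * g ^ (p - 1) := by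
  haveI := Fact.mk hy.prime
  obtain ⟨i, hi⟩ := Subgroup.mem_zpowers_iff.mp hg
  have hiter : ∀ m : ℕ, g ^ m * u * (g ^ m)⁻¹ = u ^ (i ^ m) := by
    intro m
    induction m with
    | zero => simp
    | succ m ih =>
      calc g ^ (m + 1) * u * (g ^ (m + 1))⁻¹ = g * (g ^ m * u * (g ^ m)⁻¹) * g⁻¹ := by rw [pow_succ']; group
        _ = (g * u * g⁻¹) ^ (i ^ m) := by rw [ih, conj_zpow]
        _ = _ := by rw [← hi, ← zpow_mul, pow_succ']
  have hu1 : u ≠ 1 := fun e => hy.prime.ne_one (by rw [← hu, e, orderOf_one])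
  have hip : (i : ZMod p) ≠ 0 := fun e => by
    rw [ZMod.intCast_zmod_eq_zero_iff_dvd, ← hu, orderOf_dvd_iff_zpow_eq_one, hi] at e
    exact hu1 (conj_eq_one_iff.mp e)
  refine mul_inv_eq_iff_eq_mul.mp ?_
  rw [hiter, ← zpow_one u, ← zpow_mul, one_mul, zpow_eq_zpow_iff_modEq, hu, ← ZMod.intCast_eq_intCast_iff,
    Int.cast_pow, Int.cast_one]
  exact ZMod.pow_card_sub_one_eq_one hip

/-- A flip interchanging the base points, and its centraliser in `H`. -/
theorem exists_swap : ∃ v, IsFlip t v ∧ v • o = z ∧ v • z = o ∧ v * v = 1 ∧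
    ker0 U H t = H ⊓ Subgroup.centralizer {v} ∧
    Nat.gcd 3 (p ^ n + 1) * Nat.card (ker0 U H t) = p ^ n + 1 := by
  classical
  haveI := hy.finite_points
  obtain ⟨v0, hv0⟩ := hy.exists_flip hf
  have hv0b : v0 • base Ω t = base Ω t := (hy.smul_baseT hf).mpr hv0.2.1
  obtain ⟨d, hdt, hdo, hdz⟩ := hy.cent_to hf (hy.flip_moves hf hv0 (hy.o_baseT hf)).symm (hy.o_baseT hf)
    (hv0b ▸ Set.smul_mem_smul_set (hy.o_baseT hf))
  obtain ⟨g0, hg0⟩ := hv0.1
  set v := d⁻¹ * v0 * d with hv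
  have hdt' : d⁻¹ * t = t * d⁻¹ := (Commute.inv_left (show Commute d t from hdt)).eq
  have hflip : IsFlip t v := by
    refine ⟨⟨d⁻¹ * g0, by rw [hv, hg0]; group⟩, ?_, fun e => hv0.2.2 ?_⟩
    · exact (((show Commute d⁻¹ t from hdt').mul_left hv0.2.1).mul_left hdt).eq
    · calc v0 = d * v * d⁻¹ := by rw [hv]; group
        _ = d * t * d⁻¹ := by rw [e]
        _ = t := by rw [hdt]; group
  have hv0sq : v0 * v0 = 1 := by
    rw [hg0, show g0 * t * g0⁻¹ * (g0 * t * g0⁻¹) = g0 * (t * t) * g0⁻¹ by group, ← pow_two t, hf.sq]; group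
  have hvsq : v * v = 1 := by
    rw [hv, show d⁻¹ * v0 * d * (d⁻¹ * v0 * d) = d⁻¹ * (v0 * v0) * d by group, hv0sq]; group
  have hvo : v • o = z := by
    rw [hv, mul_smul, mul_smul, hdo, inv_smul_eq_iff, hdz]
  have hvz : v • z = o := by rw [← hvo, ← mul_smul, hvsq, one_smul]
  obtain ⟨g, hg⟩ := hflip.1
  have hE : stabilizer G o ⊓ Subgroup.centralizer {t} ⊓ Subgroup.centralizer {v} = H ⊓ Subgroup.centralizer {v} := by
    ext e
    simp only [Subgroup.mem_inf, mem_stabilizer_iff, Subgroup.mem_centralizer_singleton_iff, hy.mem_H]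
    constructor
    · rintro ⟨⟨he, -⟩, hev⟩
      exact ⟨⟨he, by rw [← hvo, ← mul_smul, hev, mul_smul, he]⟩, hev⟩
    · rintro ⟨he, hev⟩
      exact ⟨⟨he.1, hy.comm_t_H hf ((hy.mem_H e).mpr he)⟩, hev⟩
  have hcard := hy.card_flip_stab hf hflip (hy.o_baseT hf)
  rw [hE] at hcard
  set E := H ⊓ Subgroup.centralizer {v}
  have hKE : ker0 U H t ≤ E := fun k hk =>
    ⟨(mem_ker0.mp hk).1, Subgroup.mem_centralizer_singleton_iff.mpr (hy.ker0_central hf hflip.2.1 hk).symm⟩
  suffices hEK : E ≤ ker0 U H t by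
    refine ⟨v, hflip, hvo, hvz, hvsq, le_antisymm hKE hEK, ?_⟩
    rw [le_antisymm hKE hEK, hcard]
  intro e he
  haveI := hy.cyc
  obtain ⟨⟨g1, hg1H⟩, hg1⟩ := IsCyclic.exists_generator (α := H)
  obtain ⟨x, hx, hb, hn⟩ := hy.special_t hf
  rcases hx.kind with ⟨hn1, -⟩ | ⟨-, -, -, hprim⟩
  · -- `n = 1`: the group `M` has prime order
    haveI := Fact.mk hy.prime
    refine mem_ker0.mpr ⟨he.1, fun u hu => ?_⟩
    by_cases hu1 : u = 1
    · rw [hu1, one_mul, mul_one]
    have hM : Nat.card (cu U t) = p := by rw [hy.card_M hf, hn1, pow_one]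
    have huo : orderOf u = p := by
      rw [← Subgroup.orderOf_mk u hu]
      exact orderOf_eq_prime (by rw [← hM]; exact pow_card_eq_one') (by simpa [Subtype.ext_iff] using hu1)
    have hzp : Subgroup.zpowers u = cu U t :=
      Subgroup.eq_of_le_of_card_ge (Subgroup.zpowers_le.mpr hu) (by rw [Nat.card_zpowers, huo, hM])
    have hfix := hy.pow_fix huo (g := g1) (by
      rw [hzp]
      refine mem_cu.mpr ⟨hy.norm g1 (hy.H_fix_o hg1H) u (mem_cu.mp hu).1, ?_⟩
      calc t * (g1 * u * g1⁻¹) = (t * g1) * u * g1⁻¹ := by group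
        _ = g1 * (t * u) * g1⁻¹ := by rw [hy.comm_H hf.mem hg1H]; group
        _ = g1 * u * (t * g1⁻¹) := by rw [(mem_cu.mp hu).2]; group
        _ = g1 * u * g1⁻¹ * t := by rw [hy.comm_H hf.mem (inv_mem hg1H)]; group)
    obtain ⟨i, hi⟩ := (IsOfFinOrder.mem_powers_iff_mem_zpowers (isOfFinOrder_of_finite _)).mpr (hg1 ⟨e, he.1⟩)
    have hi' : g1 ^ i = e := by simpa using congrArg Subtype.val hi
    have hord : orderOf g1 = Nat.card H := by
      rw [← Subgroup.orderOf_mk g1 hg1H]; exact orderOf_eq_card_of_forall_mem_zpowers hg1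
    have hdi : p - 1 ∣ i := by
      have h1 : g1 ^ (i * Nat.card E) = 1 := by
        rw [pow_mul, hi']
        exact orderOf_dvd_iff_pow_eq_one.mp (Subgroup.orderOf_dvd_natCard E he)
      have h2 := Nat.mul_dvd_mul_left (Nat.gcd 3 (p ^ n + 1)) (orderOf_dvd_of_pow_eq_one h1)
      rw [hord, hy.cardH, mul_left_comm, hcard, hn1, mul_one, pow_one] at h2
      have h3 : p ^ 2 - 1 = (p - 1) * (p + 1) := by
        have := Nat.sq_sub_sq p 1
        rw [one_pow] at this
        rw [this, mul_comm]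
      rw [h3] at h2
      exact Nat.dvd_of_mul_dvd_mul_right (Nat.succ_pos p) h2
    obtain ⟨m, rfl⟩ := hdi
    rw [← hi', pow_mul]
    exact ((Commute.pow_left hfix m).eq).symm
  · -- the special element of the flip acts semiregularly on the fixed points of `e`
    by_cases he1 : e = 1
    · rw [he1]; exact one_mem _
    have hxK : x ∈ ker0 U H t := (hy.ker0_iff hf).mpr fun w hw => by
      rw [← hb] at hw; exact hw
    set y := g * x * g⁻¹ with hyd
    have hcy : ∀ c, c * v = v * c → c * y = y * c := fun c hc => by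
      have h1 : (g⁻¹ * c * g) * t = t * (g⁻¹ * c * g) := by
        rw [hg] at hc
        calc g⁻¹ * c * g * t = g⁻¹ * (c * (g * t * g⁻¹)) * g := by group
          _ = g⁻¹ * (g * t * g⁻¹ * c) * g := by rw [hc]
          _ = _ := by group
      have h2 := hy.ker0_central hf h1 hxK
      calc c * y = g * (g⁻¹ * c * g * x) * g⁻¹ := by rw [hyd]; group
        _ = g * (x * (g⁻¹ * c * g)) * g⁻¹ := by rw [h2]
        _ = _ := by rw [hyd]; group
    have hyt : y * t = t * y := (hcy t hflip.2.1.symm).symm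
    have hye : e * y = y * e := hcy e (Subgroup.mem_centralizer_singleton_iff.mp he.2)
    have hyo : orderOf y = orderOf x := orderOf_injective (MulAut.conj g).toMonoidHom (MulAut.conj g).injective x
    have hy1 : y ≠ 1 := fun h => hx.ne (orderOf_eq_one_iff.mp (by rw [← hyo, h, orderOf_one]))
    set S : Set Ω := {w | e • w = w} with hS
    have hSb : S ⊆ base Ω t := fun w hw => by
      rw [← hb]
      exact hy.fix_two hx he1 isLine_base hy.ne (hy.o_mem hx) (hy.z_mem hx) (hy.H_fix_o he.1) (hy.H_fix_z he.1) hw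
    have hcong := mod_fix hx.prime (hyo ▸ pow_orderOf_eq_one y) S fun w hw => by
      show e • y • w = y • w
      rw [← mul_smul, hye, mul_smul, hw]
    haveI hempty : IsEmpty {w : Ω // w ∈ S ∧ y • w = w} := ⟨fun w => by
      have hfix : y • (g • o) = g • o := by
        rw [hyd, mul_smul, mul_smul, inv_smul_smul, hy.H_fix_o hx.mem]
      exact hy1 (hy.semireg hf hyt (hSb w.2.1)
        ((hy.flip_line hf hflip hg).2.2 _ (Set.smul_mem_smul_set (hy.o_baseT hf))) w.2.2 hfix)⟩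
    rw [Nat.card_of_isEmpty (α := {w : Ω // w ∈ S ∧ y • w = w})] at hcong
    obtain ⟨b, hbn, hbc⟩ := hy.cu_le_n he.1 he1
    have hbS : Nat.card ↥S = p ^ b + 1 := by
      rw [← hbc]; exact hy.card_fix he.1
    rw [hbS] at hcong
    have hnb : n ≤ b := hprim b (Nat.modEq_zero_iff_dvd.mp hcong)
    have hbeq : b = n := le_antisymm hbn hnb
    have hMe : cu U e = cu U t := Subgroup.eq_of_le_of_card_ge (hy.le_M hf he.1 he1)
      (by rw [hbc, hy.card_M hf, hbeq])
    exact mem_ker0.mpr ⟨he.1, fun m hm => (mem_cu.mp (hMe.symm ▸ hm)).2.symm⟩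

end Hyp

end CfsgLib.U3BN
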