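import Cfsg.Agent.Lib.U3BN.Special

/-!
# The lines of `q + 1` points
-/

set_option autoImplicit false
set_option linter.unusedSectionVars false

namespace CfsgLib.U3BN

open MulAction Pointwise

universe u v

variable {G : Type u} {Ω : Type v} [Group G] [MulAction G Ω] {o z : Ω} {U H : Subgroup G} {p n : ℕ} {x : G}

/-- The fixed points of an element. -/
def base (Ω : Type v) [MulAction G Ω] (x : G) : Set Ω := {w | x • w = w}

/-- A translate of the fixed point set of `x`. -/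
def IsLine (x : G) (L : Set Ω) : Prop := L ∈ orbit G (base Ω x)

/-- The normaliser of the group generated by an element. -/
abbrev nz (x : G) : Subgroup G := Subgroup.normalizer (Subgroup.zpowers x : Set G)

theorem isLine_base : IsLine x (base Ω x) := mem_orbit_self _

theorem IsLine.smul {L : Set Ω} (h : IsLine x L) (g : G) : IsLine x (g • L) := by
  obtain ⟨a, rfl⟩ := h
  exact ⟨g * a, mul_smul g a _⟩

theorem smul_mem_base {g : G} (hg : g ∈ nz x) {w : Ω} (hw : w ∈ base Ω x) : g • w ∈ base Ω x := by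
  obtain ⟨i, hi⟩ := Subgroup.mem_zpowers_iff.mp
    ((Subgroup.mem_normalizer_iff.mp (inv_mem hg) x).mp (Subgroup.mem_zpowers x))
  have e1 : (g⁻¹ * x * g) • w = w := by
    rw [show g⁻¹ * x * g = x ^ i by rw [hi, inv_inv]]
    exact mem_stabilizer_iff.mp (zpow_mem (mem_stabilizer_iff.mpr hw) i)
  rwa [mul_smul, mul_smul, inv_smul_eq_iff] at e1

namespace Hyp

variable [Finite G] (hy : Hyp G Ω o z U H p n) (hx : Special U H p n x)
include hy hx

theorem o_mem : o ∈ base Ω x := hy.H_fix_o hx.mem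
theorem z_mem : z ∈ base Ω x := hy.H_fix_z hx.mem

theorem card_base : Nat.card ↥(base Ω x) = p ^ n + 1 := by
  rw [← hx.card_cu]; exact hy.card_fix hx.mem

theorem card_nz : Nat.card (nz x) = (p ^ n + 1) * p ^ n * Nat.card H := by
  rw [nz, hy.card_norm hx.mem hx.ne, hx.card_cu]

theorem H_le_nz {h : G} (hh : h ∈ H) : h ∈ nz x := by
  refine Subgroup.centralizer_le_normalizer _ (Subgroup.mem_centralizer_iff.mpr fun y hy' => ?_)
  obtain ⟨i, rfl⟩ := Subgroup.mem_zpowers_iff.mp hy'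
  exact hy.comm_H (zpow_mem hx.mem i) hh

theorem mem_nz_of {g : G} {a b : Ω} (hab : a ≠ b) (ha : a ∈ base Ω x) (hb : b ∈ base Ω x)
    (ha' : g • a ∈ base Ω x) (hb' : g • b ∈ base Ω x) : g ∈ nz x := by
  obtain ⟨c, ca, cb, cN⟩ := hy.exists_norm hx.mem hab ha hb
  obtain ⟨d, da, db, dN⟩ := hy.exists_norm hx.mem (fun e => hab (smul_left_cancel g e)) ha' hb'
  have h1 : d⁻¹ * g * c ∈ H := (hy.mem_H _).mpr
    ⟨by rw [mul_smul, mul_smul, ca, ← da, inv_smul_smul], by rw [mul_smul, mul_smul, cb, ← db, inv_smul_smul]⟩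
  have h2 := mul_mem (mul_mem dN (hy.H_le_nz hx h1)) (inv_mem cN)
  rwa [show d * (d⁻¹ * g * c) * c⁻¹ = g by group] at h2

theorem smul_base_iff {g : G} : g • base Ω x = base Ω x ↔ g ∈ nz x := by
  constructor
  · intro h
    exact hy.mem_nz_of hx hy.ne (hy.o_mem hx) (hy.z_mem hx) (h ▸ Set.smul_mem_smul_set (hy.o_mem hx))
      (h ▸ Set.smul_mem_smul_set (hy.z_mem hx))
  · intro hg
    ext w
    rw [Set.mem_smul_set_iff_inv_smul_mem]
    exact ⟨fun h => by simpa using smul_mem_base hg h, fun h => smul_mem_base (inv_mem hg) h⟩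

theorem line_unique {L L' : Set Ω} (hL : IsLine x L) (hL' : IsLine x L') {a b : Ω} (hab : a ≠ b)
    (h1 : a ∈ L) (h2 : b ∈ L) (h3 : a ∈ L') (h4 : b ∈ L') : L = L' := by
  obtain ⟨c, rfl⟩ := hL
  obtain ⟨d, rfl⟩ := hL'
  have hN : d⁻¹ * c ∈ nz x := by
    refine hy.mem_nz_of hx (a := c⁻¹ • a) (b := c⁻¹ • b) (fun e => hab (smul_left_cancel c⁻¹ e))
      (Set.mem_smul_set_iff_inv_smul_mem.mp h1) (Set.mem_smul_set_iff_inv_smul_mem.mp h2) ?_ ?_
    · rw [mul_smul, smul_inv_smul]; exact Set.mem_smul_set_iff_inv_smul_mem.mp h3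
    · rw [mul_smul, smul_inv_smul]; exact Set.mem_smul_set_iff_inv_smul_mem.mp h4
  have h := (hy.smul_base_iff hx).mpr hN
  rw [mul_smul, inv_smul_eq_iff] at h
  exact h

theorem exists_line {a b : Ω} (hab : a ≠ b) : ∃ L, IsLine x L ∧ a ∈ L ∧ b ∈ L := by
  obtain ⟨g, ga, gb⟩ := hy.exists_to hab
  exact ⟨g • base Ω x, isLine_base.smul g, ga ▸ Set.smul_mem_smul_set (hy.o_mem hx),
    gb ▸ Set.smul_mem_smul_set (hy.z_mem hx)⟩

theorem card_line {L : Set Ω} (hL : IsLine x L) : Nat.card ↥L = p ^ n + 1 := by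
  obtain ⟨c, rfl⟩ := hL
  rw [Set.natCard_smul_set, hy.card_base hx]

theorem exists_two_line {L : Set Ω} (hL : IsLine x L) : ∃ a b, a ≠ b ∧ a ∈ L ∧ b ∈ L := by
  obtain ⟨c, rfl⟩ := hL
  exact ⟨c • o, c • z, fun e => hy.ne (smul_left_cancel c e), Set.smul_mem_smul_set (hy.o_mem hx),
    Set.smul_mem_smul_set (hy.z_mem hx)⟩

theorem card_lines :
    Nat.card ↥(orbit G (base Ω x)) * ((p ^ n + 1) * p ^ n) = (p ^ (3 * n) + 1) * p ^ (3 * n) := by
  have hs : stabilizer G (base Ω x) = nz x := by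
    ext g; rw [mem_stabilizer_iff, hy.smul_base_iff hx]
  have h := Subgroup.index_mul_card (stabilizer G (base Ω x))
  rw [index_stabilizer, ← Nat.card_coe_set_eq, hs, hy.card_nz hx, hy.card_G, ← mul_assoc (_ + 1),
    ← mul_assoc] at h
  exact Nat.eq_of_mul_eq_mul_right Nat.card_pos h

/-- An element fixing two points of a line fixes no point outside. -/
theorem fix_two {g : G} (hg : g ≠ 1) {L : Set Ω} (hL : IsLine x L) {a b c : Ω} (hab : a ≠ b) (ha : a ∈ L)
    (hb : b ∈ L) (ga : g • a = a) (gb : g • b = b) (gc : g • c = c) : c ∈ L := by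
  obtain ⟨d, da, db⟩ := hy.exists_to hab
  have hk : d⁻¹ * g * d ∈ H := hy.conj_H (by rw [da, ga]) (by rw [db, gb])
  have hk1 : d⁻¹ * g * d ≠ 1 := fun e => hg (by
    have := congrArg (fun y => d * y * d⁻¹) e; simpa [mul_assoc] using this)
  have hc : d⁻¹ • c ∈ base Ω x := by
    by_cases ho : d⁻¹ • c = o
    · rw [ho]; exact hy.o_mem hx
    obtain ⟨u, hu, e⟩ := hy.reg _ ho
    have hf : (d⁻¹ * g * d) • u • z = u • z := by
      rw [e, mul_smul, mul_smul, smul_inv_smul, gc]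
    have := mem_cu.mp (hx.le _ hk hk1 (mem_cu.mpr ⟨hu, (hy.fix_iff hk hu).mp hf⟩))
    rw [← e]
    exact (hy.fix_iff hx.mem hu).mpr this.2
  rw [hy.line_unique hx hL (isLine_base.smul d) hab ha hb (da ▸ Set.smul_mem_smul_set (hy.o_mem hx))
    (db ▸ Set.smul_mem_smul_set (hy.z_mem hx))]
  exact Set.mem_smul_set_iff_inv_smul_mem.mpr hc

omit hx in
theorem p_fix {g : G} (hg : orderOf g = p) {a b : Ω} (ga : g • a = a) (gb : g • b = b) : a = b := by
  by_contra hab
  obtain ⟨d, da, db⟩ := hy.exists_to hab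
  have hk : d⁻¹ * g * d ∈ H := hy.conj_H (by rw [da, ga]) (by rw [db, gb])
  have ho : orderOf (d⁻¹ * g * d) = p := by
    rw [← hg, ← orderOf_injective (MulAut.conj d⁻¹).toMonoidHom (MulAut.conj d⁻¹).injective g]; simp
  exact hy.prime.ne_one (Nat.eq_one_of_dvd_coprimes hy.coprime_H dvd_rfl (ho ▸ Subgroup.orderOf_dvd_natCard _ hk))

/-- A fixed point on an invariant line is accompanied by a second one, for orders prime to `p`. -/
theorem second {g : G} {r : ℕ} (hr : r.Prime) (hrp : r ≠ p) (hg : g ^ r = 1) {L : Set Ω} (hL : IsLine x L)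
    (hgL : g • L = L) {a : Ω} (ha : a ∈ L) (ga : g • a = a) : ∃ b ∈ L, b ≠ a ∧ g • b = b := by
  haveI := hy.finite_points
  have h := mod_fix hr hg (L \ {a}) fun w hw => ⟨hgL ▸ Set.smul_mem_smul_set hw.1, fun e => hw.2
    (smul_left_cancel g (e.trans ga.symm))⟩
  rw [Nat.card_coe_set_eq, Set.ncard_sdiff_singleton_of_mem ha, ← Nat.card_coe_set_eq, hy.card_line hx hL,
    Nat.add_sub_cancel] at h
  by_contra hno
  push Not at hno
  haveI : IsEmpty {w : Ω // w ∈ L \ {a} ∧ g • w = w} := ⟨fun w => hno w.1 w.2.1.1 w.2.1.2 w.2.2⟩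
  rw [Nat.card_of_isEmpty] at h
  exact hrp ((Nat.prime_dvd_prime_iff_eq hr hy.prime).mp (hr.dvd_of_dvd_pow (Nat.modEq_zero_iff_dvd.mp h)))

theorem exists_fix_p {g : G} (hg : g ^ p = 1) {L : Set Ω} (hL : IsLine x L) (hgL : g • L = L) :
    ∃ b ∈ L, g • b = b := by
  haveI := hy.finite_points
  have h := mod_fix hy.prime hg L fun w hw => hgL ▸ Set.smul_mem_smul_set hw
  rw [hy.card_line hx hL] at h
  by_contra hno
  push Not at hno
  haveI : IsEmpty {w : Ω // w ∈ L ∧ g • w = w} := ⟨fun w => hno w.1 w.2.1 w.2.2⟩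
  rw [Nat.card_of_isEmpty] at h
  exact hy.prime.ne_one (Nat.dvd_one.mp
    ((Nat.dvd_add_right (dvd_pow_self p (by have := hy.n1; omega))).mp (Nat.modEq_zero_iff_dvd.mp h)))

/-- An element fixing two points of one line and a point of another invariant line. -/
theorem line_eq_of_fix {g : G} {r : ℕ} (hr : r.Prime) (hrp : r ≠ p) (hg : g ^ r = 1) (hg1 : g ≠ 1) {L L' : Set Ω}
    (hL : IsLine x L) (hL' : IsLine x L') (hgL' : g • L' = L') {a b c : Ω} (hab : a ≠ b) (ha : a ∈ L) (hb : b ∈ L)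
    (ga : g • a = a) (gb : g • b = b) (hc : c ∈ L') (gc : g • c = c) : L = L' := by
  obtain ⟨e, he, hec, ge⟩ := hy.second hx hr hrp hg hL' hgL' hc gc
  exact hy.line_unique hx hL hL' hec (hy.fix_two hx hg1 hL hab ha hb ga gb ge)
    (hy.fix_two hx hg1 hL hab ha hb ga gb gc) he hc

theorem disjoint_of_invol {t : G} (htH : t ∈ H) (ht : t ^ 2 = 1) (ht1 : t ≠ 1) {L : Set Ω} (hL : IsLine x L)
    (htL : t • L = L) (hne : L ≠ base Ω x) {w : Ω} (hw : w ∈ L) : w ∉ base Ω x := fun hwb => by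
  by_cases hf : t • w = w
  · exact hne (hy.line_eq_of_fix hx Nat.prime_two hy.p2.symm ht ht1 isLine_base hL htL hy.ne (hy.o_mem hx)
      (hy.z_mem hx) (hy.H_fix_o htH) (hy.H_fix_z htH) hw hf).symm
  · exact hne (hy.line_unique hx hL isLine_base (Ne.symm hf) hw (htL ▸ Set.smul_mem_smul_set hw) hwb
      (smul_mem_base (hy.H_le_nz hx htH) hwb))

/-- The lines fixed by the involution besides the base line. -/
theorem card_fixed_lines {t : G} (htH : t ∈ H) (ht : t ^ 2 = 1) (ht1 : t ≠ 1) :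
    Nat.card {L : Set Ω // IsLine x L ∧ t • L = L ∧ L ≠ base Ω x} * (p ^ n + 1) = p ^ (3 * n) - p ^ n := by
  classical
  haveI := hy.finite_points
  haveI : Finite (Set Ω) := inferInstance
  haveI := Fintype.ofFinite {L : Set Ω // IsLine x L ∧ t • L = L ∧ L ≠ base Ω x}
  have e : Nat.card (Σ L : {L : Set Ω // IsLine x L ∧ t • L = L ∧ L ≠ base Ω x}, ↥L.1) =
      Nat.card ↥((base Ω x)ᶜ) := by
    refine Nat.card_eq_of_bijective
      (fun s => (⟨s.2.1, hy.disjoint_of_invol hx htH ht ht1 s.1.2.1 s.1.2.2.1 s.1.2.2.2 s.2.2⟩ : ↥((base Ω x)ᶜ)))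
      ⟨?_, ?_⟩
    · rintro ⟨⟨L, hL, htL, hne⟩, w, hw⟩ ⟨⟨L', hL', htL', hne'⟩, w', hw'⟩ e'
      obtain rfl : w = w' := congrArg Subtype.val e'
      have hmv : t • w ≠ w := fun hf => hne (hy.line_eq_of_fix hx Nat.prime_two hy.p2.symm ht ht1 isLine_base hL htL
        hy.ne (hy.o_mem hx) (hy.z_mem hx) (hy.H_fix_o htH) (hy.H_fix_z htH) hw hf).symm
      obtain rfl : L = L' := hy.line_unique hx hL hL' hmv.symm hw (htL ▸ Set.smul_mem_smul_set hw) hw'
        (htL' ▸ Set.smul_mem_smul_set hw')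
      rfl
    · rintro ⟨w, hw⟩
      have hmv : t • w ≠ w := fun hf => hw (hy.fix_two hx ht1 isLine_base hy.ne (hy.o_mem hx) (hy.z_mem hx)
        (hy.H_fix_o htH) (hy.H_fix_z htH) hf)
      obtain ⟨L, hL, h1, h2⟩ := hy.exists_line hx hmv.symm
      have htL : t • L = L := hy.line_unique hx (hL.smul t) hL hmv.symm
        (by
          have := Set.smul_mem_smul_set (a := t) h2
          rwa [← mul_smul, ← pow_two, ht, one_smul] at this)
        (Set.smul_mem_smul_set h1) h1 h2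
      exact ⟨⟨⟨L, hL, htL, fun e' => hw (e' ▸ h1)⟩, ⟨w, h1⟩⟩, rfl⟩
  rw [Nat.card_sigma, Finset.sum_congr rfl (fun L _ => hy.card_line hx L.2.1), Finset.sum_const, Finset.card_univ,
    smul_eq_mul, ← Nat.card_eq_fintype_card, Nat.card_coe_set_eq, Set.ncard_compl, ← Nat.card_coe_set_eq,
    hy.card_base hx, hy.cardΩ] at e
  omega

end Hyp

end CfsgLib.U3BN
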