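import Cfsg.Agent.Lib.U3BN.Relation
import Cfsg.Agent.Lib.U3Cent.Setting

/-!
# The centraliser of the involution is an image of the unitary group of a line
-/

set_option autoImplicit false
set_option linter.unusedSectionVars false
set_option linter.style.haveILetI false

namespace CfsgLib.U3BN

open MulAction Pointwise CfsgLib.PSUBorel CfsgLib.U3Cent

universe u v

variable {F : Type} [Field F] [Fintype F] {c : Conj F}

/-- The relations of `up`, `dg`, `ww`. -/
structure Pres {M : Type*} [Group M] (A : X0 c → M) (B : Fˣ →* M) (V : M) : Prop where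
  add : ∀ x y, A (x + y) = A x * A y
  conj : ∀ a x, B a * A x = A (nmul a x) * B a
  sq : V * V = 1
  vconj : ∀ a, V * B a = B (sig c a)⁻¹ * V
  rel : ∀ (x : X0 c) (a : Fˣ), x ≠ 0 → (a : F) * x = -1 → V * A x * V = A (xinv x) * B a * V * A (xinv x)

/-- The standard elements satisfy the relations. -/
theorem pres_W : Pres (fun x : X0 c => up x) (dgHom : Fˣ →* W c) ww := by
  refine ⟨fun x y => (up_add x y).symm, fun a x => dg_up a x _, ww_sq, fun a => ?_, fun x a hx hax => ?_⟩
  · exact ww_dg a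
  · have hx0 : (x : F) ≠ 0 := fun e => hx (Subtype.ext e)
    have ha : (a : F) = -(x : F)⁻¹ := by
      refine mul_right_cancel₀ hx0 ?_
      rw [hax, neg_mul, inv_mul_cancel₀ hx0]
    ext <;> simp [ent_mul, ha, coe_xinv, map_inv₀, sig_X0] <;> field_simp <;> ring

section Graph

variable {M : Type*} [Group M] {A : X0 c → M} {B : Fˣ →* M} {V : M} (h : Pres A B V)
include h

theorem Pres.zero : A 0 = 1 := by
  have e := h.add 0 0
  rw [add_zero] at e
  exact mul_eq_left.mp e.symm

theorem Pres.conj' (a : Fˣ) (x : X0 c) : A x * B a = B a * A (nmul a⁻¹ x) := by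
  rw [h.conj, show nmul a (nmul a⁻¹ x) = x from Subtype.ext (by
    simp only [coe_nmul, Units.val_inv_eq_inv_val, map_inv₀]
    have := a.ne_zero
    have := (map_ne_zero c.σ).mpr a.ne_zero
    field_simp)]

/-- The Bruhat form of every element generated. -/
theorem Pres.normal_form {g : M} (hg : g ∈ Subgroup.closure (Set.range A ∪ Set.range B ∪ {V})) :
    (∃ a x, g = B a * A x) ∨ ∃ x a y, g = A x * B a * V * A y := by
  have hgen : ∀ k ∈ Set.range A ∪ Set.range B ∪ {V}, ∀ g : M,
      ((∃ a x, g = B a * A x) ∨ ∃ x a y, g = A x * B a * V * A y) →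
      (∃ a x, k * g = B a * A x) ∨ ∃ x a y, k * g = A x * B a * V * A y := by
    rintro k ((⟨w, rfl⟩ | ⟨b, rfl⟩) | rfl) g (⟨a, x, rfl⟩ | ⟨x, a, y, rfl⟩)
    · exact Or.inl ⟨a, nmul a⁻¹ w + x, by rw [h.add, ← mul_assoc, h.conj', mul_assoc]⟩
    · exact Or.inr ⟨w + x, a, y, by rw [h.add]; group⟩
    · exact Or.inl ⟨b * a, x, by rw [map_mul, mul_assoc]⟩
    · exact Or.inr ⟨nmul b x, b * a, y, by rw [map_mul, ← mul_assoc (A (nmul b x)), ← h.conj]; group⟩
    · exact Or.inr ⟨0, (sig c a)⁻¹, x, by rw [h.zero, one_mul, ← h.vconj, mul_assoc]⟩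
    · by_cases hx : x = 0
      · subst hx
        refine Or.inl ⟨(sig c a)⁻¹, y, ?_⟩
        calc k * (A 0 * B a * k * A y) = (k * B a) * k * A y := by rw [h.zero]; group
          _ = B (sig c a)⁻¹ * (k * k) * A y := by rw [h.vconj]; group
          _ = _ := by rw [h.sq, mul_one]
      · obtain ⟨a1, ha1⟩ : ∃ a1 : Fˣ, (a1 : F) * x = -1 := by
          have hx0 : (x : F) ≠ 0 := fun e => hx (Subtype.ext e)
          exact ⟨-(Units.mk0 _ hx0)⁻¹, by simp [hx0]⟩
        refine Or.inr ⟨xinv x, a1 * a, nmul (sig c a)⁻¹⁻¹ (xinv x) + y, ?_⟩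
        calc k * (A x * B a * k * A y) = (k * A x * k) * (k⁻¹ * B a * k) * A y := by group
          _ = (k * A x * k) * (k * B a * k) * A y := by rw [inv_eq_of_mul_eq_one_right h.sq]
          _ = A (xinv x) * B a1 * k * A (xinv x) * (k * B a * k) * A y := by rw [h.rel x a1 hx ha1]
          _ = A (xinv x) * B a1 * k * A (xinv x) * (B (sig c a)⁻¹ * (k * k)) * A y := by rw [h.vconj]; group
          _ = A (xinv x) * B a1 * k * (A (xinv x) * B (sig c a)⁻¹) * A y := by rw [h.sq, mul_one]; group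
          _ = A (xinv x) * B a1 * (k * B (sig c a)⁻¹) * A (nmul (sig c a)⁻¹⁻¹ (xinv x)) * A y := by
            rw [h.conj' (sig c a)⁻¹]; group
          _ = A (xinv x) * B a1 * (B a * k) * A (nmul (sig c a)⁻¹⁻¹ (xinv x)) * A y := by
            rw [h.vconj]
            congr 4
            refine congrArg B ?_
            rw [map_inv, inv_inv]
            exact Units.ext (by rw [coe_sig, coe_sig, c.invol])
          _ = _ := by rw [h.add, map_mul]; group
  induction hg using Subgroup.closure_induction_left with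
  | one => exact Or.inl ⟨1, 0, by rw [map_one, h.zero, mul_one]⟩
  | mul_left k hk g _ ih => exact hgen k hk g ih
  | inv_mul_cancel k hk g _ ih =>
    refine hgen k⁻¹ ?_ g ih
    rcases hk with (⟨w, rfl⟩ | ⟨b, rfl⟩) | rfl
    · exact Or.inl (Or.inl ⟨-w, eq_inv_of_mul_eq_one_left (by rw [← h.add, neg_add_cancel, h.zero])⟩)
    · exact Or.inl (Or.inr ⟨b⁻¹, map_inv B b⟩)
    · exact Or.inr (inv_eq_of_mul_eq_one_right h.sq)

/-- The relations give a homomorphism from the unitary group of a line. -/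
theorem Pres.exists_hom : ∃ f : W c →* M, (∀ x, f (up x) = A x) ∧ (∀ a, f (dg a) = B a) ∧ f ww = V := by
  classical
  -- the graph
  have hP : Pres (fun x : X0 c => ((up x : W c), A x)) ((dgHom : Fˣ →* W c).prod B) ((ww : W c), V) := by
    refine ⟨fun x y => Prod.ext (pres_W.add x y) (h.add x y), fun a x => Prod.ext (pres_W.conj a x) (h.conj a x),
      Prod.ext (pres_W (c := c)).sq h.sq, fun a => Prod.ext (pres_W.vconj a) (h.vconj a),
      fun x a hx hax => Prod.ext (pres_W.rel x a hx hax) (h.rel x a hx hax)⟩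
  set Γ := Subgroup.closure (Set.range (fun x : X0 c => ((up x : W c), A x)) ∪
    Set.range ((dgHom : Fˣ →* W c).prod B) ∪ {((ww : W c), V)}) with hΓ
  have hA : ∀ x, ((up x : W c), A x) ∈ Γ := fun x => Subgroup.subset_closure (Or.inl (Or.inl ⟨x, rfl⟩))
  have hB : ∀ a, ((dg a : W c), B a) ∈ Γ := fun a => Subgroup.subset_closure (Or.inl (Or.inr ⟨a, rfl⟩))
  have hV : ((ww : W c), V) ∈ Γ := Subgroup.subset_closure (Or.inr rfl)
  let pr : Γ →* W c := (MonoidHom.fst (W c) M).comp Γ.subtype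
  have hinj : Function.Injective pr := by
    refine (injective_iff_map_eq_one pr).mpr fun g hg => ?_
    rcases hP.normal_form g.2 with ⟨a, x, e⟩ | ⟨x, a, y, e⟩
    · have e1 : dg a * up x = 1 := ((congrArg Prod.fst e).symm.trans hg : (_ : W c) = 1)
      have e00 := congrArg (fun k => ent k 0 0) e1
      simp [ent_mul, ent_one] at e00
      have ha : a = 1 := e00
      subst ha
      rw [show (dg (1 : Fˣ) : W c) = 1 from map_one dgHom, one_mul] at e1
      have hx : x = 0 := up_inj (e1.trans up_zero.symm)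
      subst hx
      exact Subtype.ext (e.trans (by rw [map_one, one_mul, hP.zero]; rfl))
    · exfalso
      have e1 : up x * dg a * ww * up y = 1 := ((congrArg Prod.fst e).symm.trans hg : (_ : W c) = 1)
      have e10 := congrArg (fun k => ent k 1 0) e1
      simp [ent_mul, ent_one] at e10
  have hsurj : Function.Surjective pr := fun g => by
    by_cases hg : ent g 1 0 = 0
    · obtain ⟨a, x, rfl⟩ := tri hg
      exact ⟨⟨_, mul_mem (hB a) (hA x)⟩, rfl⟩
    · obtain ⟨x, a, y, -, rfl⟩ := bruhat hg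
      exact ⟨⟨_, mul_mem (mul_mem (mul_mem (hA x) (hB a)) hV) (hA y)⟩, rfl⟩
  let e := MulEquiv.ofBijective pr ⟨hinj, hsurj⟩
  let f : W c →* M := ((MonoidHom.snd (W c) M).comp Γ.subtype).comp e.symm.toMonoidHom
  have hval : ∀ (g : W c) (m : M) (hm : (g, m) ∈ Γ), f g = m := fun g m hm => by
    have : e.symm g = ⟨(g, m), hm⟩ := e.symm_apply_eq.mpr rfl
    show ((e.symm g : Γ) : W c × M).2 = m
    rw [this]
  exact ⟨f, fun x => hval _ _ (hA x), fun a => hval _ _ (hB a), hval _ _ hV⟩

end Graph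

variable {G : Type u} {Ω : Type v} [Group G] [MulAction G Ω] {o z : Ω} {U H : Subgroup G} {p n : ℕ}

/-- The centraliser of the involution is an image of the unitary group of a line. -/
theorem Hyp.exists_setting [Finite G] [IsSimpleGroup G] (hy : Hyp G Ω o z U H p n) :
    ∃ (F : Type) (_ : Field F) (_ : Fintype F) (c : Conj F) (f : W c →* G),
      c.q = p ^ n ∧ U3Cent.Hyp c f := by
  classical
  obtain ⟨t, hf⟩ := hy.exists_frame
  obtain ⟨v, hv⟩ := hy.exists_swap' hf
  obtain ⟨F, iF, iT, c, ψ, φ0, hc0⟩ := hy.exists_coord hf hv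
  obtain ⟨φ, hc, hpt⟩ := hc0.exists_normal hy hf hv
  obtain ⟨w, hw⟩ := hc.exists_rel hy hf hv hpt
  have hpres : Pres φ ψ w := ⟨hc.add, hc.psi_phi, hw.sq, hw.conj, hw.rel⟩
  obtain ⟨f, hfA, hfB, hfV⟩ := hpres.exists_hom
  have htt : tt f = t := by
    show f neg = t
    rw [show (neg : W c) = dg (-1) from rfl, hfB, hc.neg_one]
  have hkey : ∀ g : W c, (∃ a x, g = dg a * up x ∧ f g = ψ a * φ x) ∨
      (∃ x a y, f g = φ x * ψ a * w * φ y) := fun g => by
    by_cases hg : ent g 1 0 = 0
    · obtain ⟨a, x, e⟩ := tri hg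
      exact Or.inl ⟨a, x, e, by rw [e, map_mul, hfA, hfB]⟩
    · obtain ⟨x, a, y, -, e⟩ := bruhat hg
      exact Or.inr ⟨x, a, y, by rw [e, map_mul, map_mul, map_mul, hfA, hfB, hfA, hfV]⟩
  have hker : f.ker = ψ.ker.map dgHom := by
    ext g
    constructor
    · intro hg
      rcases hkey g with ⟨a, x, e, e'⟩ | ⟨x, a, y, e'⟩ <;> rw [MonoidHom.mem_ker.mp hg] at e'
      · have h1 : φ x = (ψ a)⁻¹ := eq_inv_of_mul_eq_one_right e'.symm
        have hx1 : φ x = 1 := hy.U_inter_H (mem_cu.mp (hc.mem x)).1 (h1 ▸ inv_mem (hc.psi_mem a))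
        have hx : x = 0 := hc.inj (hx1.trans hc.zero.symm)
        rw [hx1, mul_one] at e'
        exact ⟨a, e'.symm, by rw [e, hx, up_zero, mul_one]⟩
      · exfalso
        have h1 := congrArg (fun k : G => k • o) e'
        simp only [one_smul, mul_smul, hc.phi_o hy hf, hw.wo, hy.H_fix_z (hc.psi_mem a)] at h1
        exact hc.phi_z_ne hy hf x h1.symm
    · rintro ⟨a, ha, rfl⟩
      exact MonoidHom.mem_ker.mpr ((hfB a).trans ha)
  refine ⟨F, iF, iT, c, f, hc.hq, ⟨by rw [hc.hq]; exact hy.q_odd, ?_, fun g hg => ?_, ?_⟩⟩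
  · rw [htt]
    refine le_antisymm ?_ fun g hg => ?_
    · rintro _ ⟨g, rfl⟩
      rw [Subgroup.mem_centralizer_singleton_iff]
      have hψt : ∀ a, Commute (ψ a) t := fun a => hy.comm_t_H hf (hc.psi_mem a)
      have hφt : ∀ x, Commute (φ x) t := fun x => hc.phi_t hy hf x
      rcases hkey g with ⟨a, x, -, e⟩ | ⟨x, a, y, e⟩ <;> rw [e]
      · exact ((hψt a).mul_left (hφt x)).eq
      · exact ((((hφt x).mul_left (hψt a)).mul_left hw.comm).mul_left (hφt y)).eq
    · have hg' : g * t = t * g := Subgroup.mem_centralizer_singleton_iff.mp hg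
      have hsmall : ∀ k : G, k * t = t * k → k • o = o → k ∈ f.range := fun k hk hko => by
        obtain ⟨m, hm, h, hh, rfl⟩ := hy.cent_decomp hf hk hko
        obtain ⟨x, rfl⟩ := hc.surj m hm
        obtain ⟨a, rfl⟩ := hc.range.symm ▸ hh
        exact ⟨up x * dg a, by rw [map_mul, hfA, hfB]⟩
      by_cases hgo : g • o = o
      · exact hsmall g hg' hgo
      obtain ⟨x, hx⟩ := hc.base_point hy hf (w := g • o)
        (((hy.smul_baseT hf).mpr hg') ▸ Set.smul_mem_smul_set (hy.o_baseT hf)) hgo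
      obtain ⟨k, hk⟩ := hsmall (w * (φ x)⁻¹ * g)
        (((show Commute w t from hw.comm).mul_left
          (show Commute (φ x) t from hc.phi_t hy hf x).inv_left).mul_left hg').eq
        (by rw [mul_smul, mul_smul, ← hx, inv_smul_smul, hw.wz])
      refine ⟨up x * ww * k, ?_⟩
      rw [map_mul, map_mul, hfA, hfV, hk]
      calc φ x * w * (w * (φ x)⁻¹ * g) = φ x * (w * w) * (φ x)⁻¹ * g := by group
        _ = g := by rw [hw.sq]; group
  · rw [hker] at hg
    obtain ⟨a, ha, rfl⟩ := hg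
    exact isScal_dg.mpr ((hc.ker0_iff a).mp (by rw [show ψ a = 1 from ha]; exact one_mem _))
  · rw [hker, Nat.card_congr (Subgroup.equivMapOfInjective ψ.ker dgHom fun a b e => dg_inj e).symm.toEquiv]
    exact hc.odd_ker

end CfsgLib.U3BN
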