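import Cfsg.Agent.Lib.U3BN.Coord

/-!
# The relation between the flip and the translations
-/

set_option autoImplicit false
set_option linter.unusedSectionVars false
set_option linter.style.haveILetI false

namespace CfsgLib.U3BN

open MulAction Pointwise CfsgLib.PSUBorel CfsgLib.U3Cent

universe u v

variable {F : Type} [Field F] [Fintype F] {c : Conj F}

/-- The inverse of an element of trace zero. -/
def xinv (x : X0 c) : X0 c :=
  ⟨(x : F)⁻¹, by rw [mem_X0, map_inv₀, sig_X0, inv_neg, add_neg_cancel]⟩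

/-- A unit times an element of trace zero. -/
def nmul (a : Fˣ) (x : X0 c) : X0 c := ⟨_, norm_mul_X0 (a : F) x⟩

theorem coe_xinv (x : X0 c) : (xinv x : F) = (x : F)⁻¹ := rfl

theorem coe_nmul (a : Fˣ) (x : X0 c) : (nmul a x : F) = (a : F) * c.σ (a : F) * x := rfl

/-- The conjugate of a unit. -/
def sig (c : Conj F) : Fˣ →* Fˣ := Units.map (c.σ : F →* F)

theorem coe_sig (a : Fˣ) : (sig c a : F) = c.σ (a : F) := rfl

theorem xinv_nmul (a : Fˣ) (x : X0 c) : xinv (nmul a x) = nmul a⁻¹ (xinv x) :=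
  Subtype.ext (by simp [coe_xinv, coe_nmul, mul_comm, mul_left_comm])

theorem exists_unit {x x1 : X0 c} (hx : x ≠ 0) (hx1 : x1 ≠ 0) : ∃ b : Fˣ, x = nmul b x1 := by
  have h1 : (x1 : F) ≠ 0 := fun e => hx1 (Subtype.ext e)
  have h2 : (x : F) ≠ 0 := fun e => hx (Subtype.ext e)
  obtain ⟨b, hb⟩ := c.exists_norm (d := (x : F) / x1) (by rw [map_div₀, sig_X0, sig_X0, neg_div_neg_eq])
  have hb0 : b ≠ 0 := fun e => div_ne_zero h2 h1 (by rw [← hb, e, zero_mul])
  exact ⟨Units.mk0 b hb0, Subtype.ext (by rw [coe_nmul, Units.val_mk0, hb, div_mul_cancel₀ _ h1])⟩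

variable {G : Type u} {Ω : Type v} [Group G] [MulAction G Ω] {o z : Ω} {U H : Subgroup G} {p n : ℕ} {t v : G}
  {ψ : Fˣ →* G} {φ : X0 c → G}

/-- The flip in coordinates. -/
structure Rel (o z : Ω) (t : G) (ψ : Fˣ →* G) (φ : X0 c → G) (w : G) : Prop where
  comm : w * t = t * w
  wo : w • o = z
  wz : w • z = o
  sq : w * w = 1
  conj : ∀ a : Fˣ, w * ψ a = ψ (sig c a)⁻¹ * w
  rel : ∀ (x : X0 c) (a : Fˣ), x ≠ 0 → (a : F) * x = -1 → w * φ x * w = φ (xinv x) * ψ a * w * φ (xinv x)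

namespace Coord

variable (hc : Coord U H t p n c ψ φ)
include hc

theorem zero : φ 0 = 1 := by
  have h := hc.add 0 0
  rw [add_zero] at h
  exact mul_eq_left.mp h.symm

theorem neg (x : X0 c) : φ (-x) = (φ x)⁻¹ := eq_inv_of_mul_eq_one_left (by
  rw [← hc.add, neg_add_cancel, hc.zero])

theorem psi_mem (a : Fˣ) : ψ a ∈ H := hc.range ▸ ⟨a, rfl⟩

theorem psi_phi (a : Fˣ) (x : X0 c) : ψ a * φ x = φ (nmul a x) * ψ a :=
  mul_inv_eq_iff_eq_mul.mp (hc.equiv a x)

theorem rescale (l : F) (hl : l ≠ 0) (hfix : c.σ l = l) :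
    ∃ φ' : X0 c → G, Coord U H t p n c ψ φ' ∧ ∀ x y : X0 c, (y : F) = l * x → φ' x = φ y := by
  have hm : ∀ x : X0 c, l * (x : F) ∈ X0 c := fun x => by rw [mem_X0, map_mul, hfix, sig_X0]; ring
  refine ⟨fun x => φ ⟨_, hm x⟩, ⟨hc.hq, fun x => hc.mem _, fun x y e => ?_, fun m hm' => ?_, fun x y => ?_,
    hc.range, hc.ker0_iff, hc.odd_ker, hc.neg_one, fun a x => ?_⟩, fun x y e => congrArg φ (Subtype.ext e.symm)⟩
  · exact Subtype.ext (mul_left_cancel₀ hl (congrArg Subtype.val (hc.inj e)))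
  · obtain ⟨y, rfl⟩ := hc.surj m hm'
    have hy : l⁻¹ * (y : F) ∈ X0 c := by rw [mem_X0, map_mul, map_inv₀, hfix, sig_X0]; ring
    exact ⟨⟨_, hy⟩, congrArg φ (Subtype.ext (mul_inv_cancel_left₀ hl _))⟩
  · rw [← hc.add]
    exact congrArg φ (Subtype.ext (by simp [mul_add]))
  · rw [hc.equiv]
    exact congrArg φ (Subtype.ext (by simp [mul_left_comm]))

variable [Finite G] (hy : Hyp G Ω o z U H p n) (hf : Frame U H p n t)
include hy hf

theorem phi_o (x : X0 c) : φ x • o = o := hy.U_fix _ (mem_cu.mp (hc.mem x)).1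

theorem phi_z_inj {x y : X0 c} (e : φ x • z = φ y • z) : x = y :=
  hc.inj (hy.U_inj (mem_cu.mp (hc.mem x)).1 (mem_cu.mp (hc.mem y)).1 e)

theorem phi_z_ne (x : X0 c) : φ x • z ≠ o := fun e =>
  hy.ne (smul_left_cancel (φ x) (e.trans (hc.phi_o hy hf x).symm)).symm

theorem base_point {w : Ω} (hw : w ∈ base Ω t) (ho : w ≠ o) : ∃ x, φ x • z = w := by
  obtain ⟨m, hm, rfl⟩ := hy.base_mem hf hw ho
  obtain ⟨x, rfl⟩ := hc.surj m hm
  exact ⟨x, rfl⟩

theorem phi_t (x : X0 c) : φ x * t = t * φ x := (mem_cu.mp (hc.mem x)).2.symm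

theorem psi_point (a : Fˣ) (x : X0 c) : ψ a • φ x • z = φ (nmul a x) • z := by
  rw [← mul_smul, hc.psi_phi, mul_smul, hy.H_fix_z (hc.psi_mem a)]

variable [IsSimpleGroup G] (hv : Swap Ω o z U H p n t v)
include hv

theorem v_psi (a : Fˣ) : v * ψ a = ψ (sig c a)⁻¹ * v := by
  have h := hy.swap_conj hf hv (hc.psi_mem a)
  have e : sig c a = a ^ (p ^ n) := Units.ext (by rw [coe_sig, Units.val_pow_eq_pow_val, c.hσ, hc.hq])
  rw [map_inv, e, map_pow, ← eq_inv_of_mul_eq_one_left h, mul_assoc, hv.sq, mul_one]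

theorem v_point (x : X0 c) (hx : x ≠ 0) : ∃ y, y ≠ 0 ∧ v • φ x • z = φ y • z := by
  have hm : φ x • z ∈ base Ω t := hy.M_mem_base hf (hc.mem x)
  have hv' : v • φ x • z ∈ base Ω t := ((hy.smul_baseT hf).mpr hv.flip.2.1) ▸ Set.smul_mem_smul_set hm
  have hz : φ (0 : X0 c) • z = z := by rw [hc.zero, one_smul]
  obtain ⟨y, e⟩ := hc.base_point hy hf hv' (fun e => hx (hc.phi_z_inj hy hf (hz.symm ▸ smul_left_cancel v (e.trans hv.vz.symm))))
  refine ⟨y, fun e0 => hc.phi_z_ne hy hf x ?_, e.symm⟩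
  rw [e0, hz] at e
  exact smul_left_cancel v (e.symm.trans hv.vo.symm)

/-- In suitable coordinates the flip is the inversion of the line. -/
theorem exists_normal : ∃ φ' : X0 c → G, Coord U H t p n c ψ φ' ∧
    ∀ x : X0 c, x ≠ 0 → v • φ' x • z = φ' (xinv x) • z := by
  obtain ⟨b0, hb, hb0⟩ := c.exists_antifixed
  set x1 : X0 c := ⟨b0, by rw [mem_X0, hb0, add_neg_cancel]⟩ with hx1
  have hx10 : x1 ≠ 0 := fun e => hb (congrArg Subtype.val e)
  obtain ⟨y1, hy10, hy1⟩ := hc.v_point hy hf hv x1 hx10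
  -- the general point
  have hgen : ∀ x : X0 c, x ≠ 0 → ∀ y : X0 c, (y : F) = (x1 : F) * y1 / x → v • φ x • z = φ y • z := by
    intro x hx y hy'
    obtain ⟨b, rfl⟩ := exists_unit hx hx10
    rw [← hc.psi_point hy hf, ← mul_smul v, hc.v_psi hy hf hv, mul_smul, hy1, hc.psi_point hy hf]
    congr 2
    refine Subtype.ext ?_
    have h1 : (x1 : F) ≠ 0 := fun e => hx10 (Subtype.ext e)
    have h2 : (b : F) ≠ 0 := b.ne_zero
    have h3 : c.σ (b : F) ≠ 0 := (map_ne_zero c.σ).mpr b.ne_zero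
    rw [hy', coe_nmul, coe_nmul, Units.val_inv_eq_inv_val, coe_sig, map_inv₀, c.invol]
    field_simp
  set C : F := (x1 : F) * y1 with hC
  have hC0 : C ≠ 0 := mul_ne_zero (fun e => hx10 (Subtype.ext e)) (fun e => hy10 (Subtype.ext e))
  have hCfix : c.σ C = C := by rw [hC, map_mul, sig_X0, sig_X0]; ring
  obtain ⟨u, hu⟩ := c.exists_norm hCfix
  -- a square root of `C`
  obtain ⟨l, hl⟩ : ∃ l : F, l ^ 2 = C := by
    obtain ⟨m, hm⟩ := hy.q_odd
    refine ⟨u ^ (m + 1), ?_⟩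
    rw [← pow_mul, ← hu, c.hσ, hc.hq, ← pow_succ']
    congr 1
    omega
  have hl0 : l ≠ 0 := fun e => hC0 (by rw [← hl, e]; simp)
  have hlfix : c.σ l = l := by
    have h : (c.σ l - l) * (c.σ l + l) = 0 := by
      have h' := congrArg c.σ hl
      rw [map_pow, hCfix, ← hl] at h'
      linear_combination h'
    rcases mul_eq_zero.mp h with h' | h'
    · exact sub_eq_zero.mp h'
    · exfalso
      have hlX : l ∈ X0 c := by rw [mem_X0, add_comm, h']
      have hx : (⟨l, hlX⟩ : X0 c) ≠ 0 := fun e => hl0 (congrArg Subtype.val e)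
      have hfix := hgen _ hx ⟨l, hlX⟩ (by
        show l = C / l
        rw [← hl]; field_simp)
      exact hy.flip_moves hf hv.flip (hy.M_mem_base hf (hc.mem _)) hfix
  obtain ⟨φ', hc', hφ'⟩ := hc.rescale l hl0 hlfix
  refine ⟨φ', hc', fun x hx => ?_⟩
  have h1 : l * (x : F) ∈ X0 c := by rw [mem_X0, map_mul, hlfix, sig_X0]; ring
  have h2 : l * (xinv x : F) ∈ X0 c := by rw [mem_X0, map_mul, hlfix, sig_X0]; ring
  have hx0 : (x : F) ≠ 0 := fun e => hx (Subtype.ext e)
  rw [hφ' x ⟨_, h1⟩ rfl, hφ' (xinv x) ⟨_, h2⟩ rfl]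
  refine hgen _ (fun e => mul_ne_zero hl0 hx0 (congrArg Subtype.val e)) _ ?_
  show l * (xinv x : F) = C / (l * x)
  rw [coe_xinv, ← hl]
  field_simp

/-- The relation, after possibly multiplying the flip by the involution. -/
theorem exists_rel (hpt : ∀ x : X0 c, x ≠ 0 → v • φ x • z = φ (xinv x) • z) :
    ∃ w, Rel o z t ψ φ w := by
  have hvt : v * t = t * v := hv.flip.2.1
  have hvpsi := hc.v_psi hy hf hv
  -- the torus component
  have hsplit : ∀ x : X0 c, x ≠ 0 → ∃ a : Fˣ, v * φ x * v = φ (xinv x) * ψ a * v * φ (xinv x) ∧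
      (a : F) * c.σ (a : F) = -((x : F)⁻¹ * (x : F)⁻¹) := by
    intro x hx
    set g := (φ (xinv x))⁻¹ * (v * φ x * v) * (φ (xinv x))⁻¹ * v with hg
    have hx0 : (x : F) ≠ 0 := fun e => hx (Subtype.ext e)
    have hi : xinv x ≠ 0 := fun e => inv_ne_zero hx0 (congrArg Subtype.val e)
    have hpoint : ∀ y y' : X0 c, y ≠ 0 → (y' : F) = (y : F) - (x : F)⁻¹ → y' ≠ 0 →
        ∀ r : X0 c, (r : F) = ((y' : F))⁻¹ + x → ((φ (xinv x))⁻¹ * (v * φ x * v) * (φ (xinv x))⁻¹) • φ y • z =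
          ((φ (xinv x))⁻¹ * v) • φ r • z := by
      intro y y' _ hy' hy'0 r hr
      simp only [mul_smul]
      rw [show (φ (xinv x))⁻¹ • φ y • z = φ y' • z by
          rw [← hc.neg, ← mul_smul, ← hc.add]
          congr 2
          exact Subtype.ext (by rw [AddSubgroup.coe_add, AddSubgroup.coe_neg, coe_xinv, hy']; ring),
        hpt y' hy'0, ← mul_smul (φ x), ← hc.add]
      congr 4
      exact Subtype.ext (by rw [AddSubgroup.coe_add, coe_xinv, hr]; ring)
    have hgz : g • z = z := by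
      simp only [hg, mul_smul, hv.vz]
      rw [inv_smul_of_fix (hc.phi_o hy hf _), hv.vo, hpt x hx, inv_smul_smul]
    have hgo : g • o = o := by
      simp only [hg, mul_smul, hv.vo]
      rw [← hc.neg, hpt _ (neg_ne_zero.mpr hi), ← mul_smul (φ x), ← hc.add,
        show x + xinv (-xinv x) = 0 from Subtype.ext (by
          rw [AddSubgroup.coe_add, coe_xinv, AddSubgroup.coe_neg, coe_xinv, inv_neg, inv_inv,
            add_neg_cancel, AddSubgroup.coe_zero]),
        hc.zero, one_smul, hv.vz, hc.phi_o hy hf]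
    have hgH : g ∈ H := (hy.mem_H g).mpr ⟨hgo, hgz⟩
    obtain ⟨a, ha⟩ := hc.range.symm ▸ hgH
    refine ⟨a, ?_, ?_⟩
    · rw [ha, hg]
      rw [show φ (xinv x) * ((φ (xinv x))⁻¹ * (v * φ x * v) * (φ (xinv x))⁻¹ * v) * v * φ (xinv x) =
        v * φ x * v * (φ (xinv x))⁻¹ * (v * v) * φ (xinv x) by group, hv.sq]
      group
    · -- evaluate at the point `-x`
      have h2 : (2 : F) ≠ 0 := two_ne (c := c) (hc.hq ▸ hy.q_odd)
      have hm : (-x : X0 c) ≠ 0 := neg_ne_zero.mpr hx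
      set y' : X0 c := xinv (-x) - xinv x with hy'
      have hy'v : (y' : F) = (xinv (-x) : F) - (x : F)⁻¹ := by rw [hy', AddSubgroup.coe_sub, coe_xinv, coe_xinv]
      have hy'e : (y' : F) = -(2 * (x : F)⁻¹) := by
        rw [hy'v, coe_xinv, AddSubgroup.coe_neg, inv_neg]; ring
      have hy'0 : y' ≠ 0 := fun e => neg_ne_zero.mpr (mul_ne_zero h2 (inv_ne_zero hx0)) (by
        rw [← hy'e, e]; rfl)
      set r : X0 c := xinv y' + x with hr
      have hre : (r : F) = (x : F) / 2 := by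
        rw [hr, AddSubgroup.coe_add, coe_xinv, hy'e]; field_simp; ring
      have hr0 : r ≠ 0 := fun e => div_ne_zero hx0 h2 (by rw [← hre, e]; rfl)
      have e1 : g • φ (-x) • z = φ (-xinv x + xinv r) • z := by
        have hmi : xinv (-x) ≠ 0 := fun e => inv_ne_zero hx0 (by
          have := congrArg Subtype.val e
          rw [coe_xinv, AddSubgroup.coe_neg, inv_neg, AddSubgroup.coe_zero, neg_eq_zero] at this
          exact this)
        rw [hg, mul_smul _ v, hpt _ hm, hpoint _ y' hmi hy'v hy'0 r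
          (by rw [hr, AddSubgroup.coe_add, coe_xinv]), mul_smul, hpt r hr0, ← hc.neg, ← mul_smul, ← hc.add]
      rw [← ha, hc.psi_point hy hf] at e1
      have e2 := congrArg Subtype.val (hc.phi_z_inj hy hf e1)
      rw [coe_nmul, AddSubgroup.coe_neg, AddSubgroup.coe_add, AddSubgroup.coe_neg, coe_xinv, coe_xinv, hre] at e2
      refine mul_right_cancel₀ hx0 ?_
      field_simp at e2 ⊢
      linear_combination -e2
  -- inversion and equivariance
  obtain ⟨b0, hb, hb0⟩ := c.exists_antifixed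
  set x1 : X0 c := ⟨b0, by rw [mem_X0, hb0, add_neg_cancel]⟩ with hx1
  have hx10 : x1 ≠ 0 := fun e => hb (congrArg Subtype.val e)
  obtain ⟨a1, ha1, hN1⟩ := hsplit x1 hx10
  have hequiv : ∀ b : Fˣ, v * φ (nmul b x1) * v =
      φ (xinv (nmul b x1)) * ψ ((sig c b)⁻¹ * a1 * b⁻¹) * v * φ (xinv (nmul b x1)) := by
    intro b
    have h1 : φ (nmul b x1) = ψ b * φ x1 * (ψ b)⁻¹ := (hc.equiv b x1).symm
    have h2 : (ψ b)⁻¹ * v = v * ψ (sig c b) := by
      rw [hvpsi, map_inv]
      congr 2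
      exact congrArg ψ (Units.ext (by rw [coe_sig, coe_sig, c.invol])).symm
    calc v * φ (nmul b x1) * v = (v * ψ b) * φ x1 * ((ψ b)⁻¹ * v) := by rw [h1]; group
      _ = ψ (sig c b)⁻¹ * (v * φ x1 * v) * ψ (sig c b) := by rw [hvpsi, h2]; group
      _ = (ψ (sig c b)⁻¹ * φ (xinv x1)) * ψ a1 * v * (φ (xinv x1) * ψ (sig c b)) := by rw [ha1]; group
      _ = φ (xinv (nmul b x1)) * ψ (sig c b)⁻¹ * ψ a1 * v * (ψ (sig c b) * φ (xinv (nmul b x1))) := by
        have e3 : nmul (sig c b)⁻¹ (xinv x1) = xinv (nmul b x1) := by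
          rw [xinv_nmul]
          exact Subtype.ext (by
            rw [coe_nmul, coe_nmul, Units.val_inv_eq_inv_val, Units.val_inv_eq_inv_val, map_inv₀, map_inv₀, coe_sig,
              c.invol]
            ring)
        have e4 : nmul (sig c b) (xinv (nmul b x1)) = xinv x1 := by
          rw [← e3]
          refine Subtype.ext ?_
          simp only [coe_nmul, coe_sig, Units.val_inv_eq_inv_val, map_inv₀, c.invol]
          have := b.ne_zero
          have := (map_ne_zero c.σ).mpr b.ne_zero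
          field_simp
        rw [show ψ (sig c b)⁻¹ * φ (xinv x1) = φ (xinv (nmul b x1)) * ψ (sig c b)⁻¹ by rw [hc.psi_phi, e3],
          show φ (xinv x1) * ψ (sig c b) = ψ (sig c b) * φ (xinv (nmul b x1)) by rw [hc.psi_phi (sig c b), e4]]
      _ = φ (xinv (nmul b x1)) * ψ (sig c b)⁻¹ * ψ a1 * (v * ψ (sig c b)) * φ (xinv (nmul b x1)) := by group
      _ = _ := by
        rw [hvpsi, show sig c (sig c b) = b from Units.ext (by rw [coe_sig, coe_sig, c.invol]), map_mul, map_mul]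
        group
  -- the sign
  obtain ⟨e, he⟩ : ∃ e : Fˣ, (e : F) * x1 = -1 := by
    refine ⟨-(Units.mk0 b0 hb)⁻¹, ?_⟩
    rw [Units.val_neg, Units.val_inv_eq_inv_val, Units.val_mk0, hx1]
    field_simp
  set u := a1 * e⁻¹ with hu
  have hu2 : ψ u * ψ u = 1 := by
    obtain ⟨b, hbN⟩ : ∃ b : Fˣ, -x1 = nmul b x1 := exists_unit (neg_ne_zero.mpr hx10) hx10
    have h1 := hequiv b
    rw [← hbN] at h1
    have h2 : v * φ (-x1) * v = φ (xinv (-x1)) * ψ (sig c a1) * v * φ (xinv (-x1)) := by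
      have h3 : (v * φ x1 * v)⁻¹ = v * φ (-x1) * v := by
        rw [hc.neg, mul_inv_rev, mul_inv_rev, Hyp.v_inv hy hv]; group
      rw [← h3, ha1, show xinv (-x1) = -xinv x1 from Subtype.ext (by
        simp [coe_xinv]), hc.neg, mul_inv_rev, mul_inv_rev, mul_inv_rev, Hyp.v_inv hy hv, ← map_inv,
        ← mul_assoc v, hvpsi, map_inv (sig c), inv_inv]
      group
    rw [h2] at h1
    have h4 : ψ (sig c a1) = ψ ((sig c b)⁻¹ * a1 * b⁻¹) :=
      mul_left_cancel (mul_right_cancel (mul_right_cancel h1))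
    have hbn : (b : F) * c.σ (b : F) = -1 := by
      have h5 := congrArg Subtype.val hbN
      rw [coe_nmul, AddSubgroup.coe_neg] at h5
      refine mul_right_cancel₀ (fun e => hx10 (Subtype.ext e)) (?_ : (b : F) * c.σ (b : F) * (x1 : F) = -1 * x1)
      rw [← h5]; ring
    have h6 : (sig c b)⁻¹ * a1 * b⁻¹ = -a1 := by
      refine Units.ext ?_
      rw [Units.val_mul, Units.val_mul, Units.val_inv_eq_inv_val, Units.val_inv_eq_inv_val, coe_sig, Units.val_neg]
      have := b.ne_zero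
      have := (map_ne_zero c.σ).mpr b.ne_zero
      field_simp
      linear_combination hbn
    rw [h6] at h4
    -- `sig u = u⁻¹`
    have hNu : sig c u = u⁻¹ := by
      refine eq_inv_of_mul_eq_one_left (Units.ext ?_)
      rw [Units.val_mul, Units.val_one, hu, Units.val_mul, coe_sig, Units.val_mul, map_mul, Units.val_inv_eq_inv_val]
      have he' : (e : F) = -(x1 : F)⁻¹ := by
        refine mul_right_cancel₀ (fun e0 => hx10 (Subtype.ext e0)) (?_ : (e : F) * (x1 : F) = _ * (x1 : F))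
        rw [he, neg_mul, inv_mul_cancel₀ (fun e0 => hx10 (Subtype.ext e0))]
      rw [he', map_inv₀, map_neg, map_inv₀, sig_X0]
      have hx1' : (x1 : F) ≠ 0 := fun e0 => hx10 (Subtype.ext e0)
      field_simp at hN1 ⊢
      linear_combination -hN1
    have h7 : ψ (sig c u) = ψ u := by
      have he' : c.σ (e : F) = -(e : F) := by
        have h := congrArg c.σ he
        rw [map_mul, sig_X0, map_neg, map_one] at h
        refine mul_right_cancel₀ (fun e0 => hx10 (Subtype.ext e0)) (?_ : c.σ (e : F) * (x1 : F) = _ * (x1 : F))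
        linear_combination -h + he
      have he'' : sig c e⁻¹ = -e⁻¹ := Units.ext (by
        rw [Units.val_neg, map_inv, Units.val_inv_eq_inv_val, Units.val_inv_eq_inv_val, coe_sig, he', inv_neg])
      calc ψ (sig c u) = ψ (sig c a1) * ψ (sig c e⁻¹) := by rw [hu, map_mul, map_mul]
        _ = ψ (-a1) * ψ (-e⁻¹) := by rw [h4, he'']
        _ = ψ u := by rw [← map_mul, neg_mul_neg]
    rw [hNu, map_inv] at h7
    calc ψ u * ψ u = (ψ u)⁻¹ * ψ u := by rw [h7]
      _ = 1 := inv_mul_cancel _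
  have ha1u : a1 = u * e := by rw [hu, inv_mul_cancel_right]
  -- the choice of the flip
  obtain ⟨s, hs, hss, hst, hsu⟩ : ∃ s : G, s ∈ ker0 U H t ∧ s * s = 1 ∧ (s = 1 ∨ s = t) ∧ ψ u = s := by
    by_cases h1 : ψ u = 1
    · exact ⟨1, one_mem _, mul_one 1, Or.inl rfl, h1⟩
    refine ⟨t, hy.t_mem_ker0 hf, by rw [← pow_two, hf.sq], Or.inr rfl, ?_⟩
    haveI := Fact.mk Nat.prime_two
    have h2 := hy.zp_eq (hc.psi_mem u) hf.mem ((orderOf_eq_prime (p := 2) (by rw [pow_two, hu2]) h1).trans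
      (orderOf_eq_prime hf.sq hf.ne).symm)
    obtain ⟨i, hi⟩ := Subgroup.mem_zpowers_iff.mp (h2 ▸ Subgroup.mem_zpowers (ψ u))
    rcases Int.even_or_odd' i with ⟨r, rfl | rfl⟩
    · rw [zpow_mul, show t ^ (2 : ℤ) = 1 by rw [show (2 : ℤ) = ((2 : ℕ) : ℤ) from rfl, zpow_natCast, hf.sq],
        one_zpow] at hi
      exact absurd hi.symm h1
    · rw [zpow_add, zpow_mul, show t ^ (2 : ℤ) = 1 by rw [show (2 : ℤ) = ((2 : ℕ) : ℤ) from rfl, zpow_natCast, hf.sq],
        one_zpow, one_mul, zpow_one] at hi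
      exact hi.symm
  have hcs : ∀ g : G, g * t = t * g → g * s = s * g := fun g hg => hy.ker0_central hf hg hs
  have hvs : v * s = s * v := hcs v hvt
  have hpsit : ∀ a, ψ a * t = t * ψ a := fun a => hy.comm_t_H hf (hc.psi_mem a)
  refine ⟨v * s, ?_, ?_, ?_, ?_, fun a => ?_, fun x a hx hax => ?_⟩
  · rcases hst with rfl | rfl
    · rw [mul_one, hvt]
    · rw [← mul_assoc, ← hvt]
  · rw [mul_smul, hy.H_fix_o (mem_ker0.mp hs).1, hv.vo]
  · rw [mul_smul, hy.H_fix_z (mem_ker0.mp hs).1, hv.vz]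
  · calc v * s * (v * s) = v * (s * v) * s := by group
      _ = v * v * (s * s) := by rw [← hvs]; group
      _ = 1 := by rw [hv.sq, hss, one_mul]
  · calc v * s * ψ a = v * (ψ a * s) := by rw [mul_assoc, hcs _ (hpsit a)]
      _ = v * ψ a * s := by group
      _ = ψ (sig c a)⁻¹ * (v * s) := by rw [hvpsi]; group
  · obtain ⟨b, rfl⟩ := exists_unit hx hx10
    have h := hequiv b
    rw [show (sig c b)⁻¹ * a1 * b⁻¹ = u * a from by
      have hae : e = a * (b * sig c b) := Units.ext (mul_right_cancel₀ (fun e0 => hx10 (Subtype.ext e0))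
        (show (e : F) * (x1 : F) = _ * (x1 : F) by
          rw [coe_nmul] at hax
          rw [he, Units.val_mul, Units.val_mul, coe_sig]
          linear_combination -hax))
      rw [hu, hae]
      simp [mul_comm, mul_left_comm, mul_assoc], map_mul, hsu] at h
    calc v * s * φ (nmul b x1) * (v * s) = v * φ (nmul b x1) * (s * v) * s := by
          rw [mul_assoc v s, ← hcs _ (hc.phi_t hy hf _)]; group
      _ = v * φ (nmul b x1) * v * (s * s) := by rw [← hvs]; group
      _ = φ (xinv (nmul b x1)) * (s * ψ a) * v * φ (xinv (nmul b x1)) := by rw [hss, mul_one, h]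
      _ = φ (xinv (nmul b x1)) * ψ a * (s * v) * φ (xinv (nmul b x1)) := by rw [← hcs _ (hpsit a)]; group
      _ = _ := by rw [← hvs]

end Coord

end CfsgLib.U3BN
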