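import Cfsg.Agent.Lib.U3BN.Main
import Cfsg.Agent.Lib.U3Cent.Iso
import Cfsg.Agent.S0322
import Cfsg.Prelude.Def_LieExceptional

/-!
# Split pairs of rank one of odd unitary type
-/

set_option autoImplicit false
set_option linter.unusedSectionVars false
set_option linter.style.haveILetI false

namespace CfsgLib.U3BN

open MulAction Pointwise CfsgLib.PSUBorel CfsgLib.U3Cent

universe u

variable {G : Type u} [Group G] [Finite G] [IsSimpleGroup G]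

theorem exists_hyp (P : Cfsg.BNPair G) (h1 : P.rank = 1) {p n : ℕ} (hp : p.Prime) (hp2 : p ≠ 2) (hn : 1 ≤ n)
    (U : Subgroup G) (hUB : U ≤ P.B) (hUn : ∀ b ∈ P.B, ∀ u ∈ U, b * u * b⁻¹ ∈ U)
    (hsplit : U ⊔ (P.B ⊓ P.N) = P.B) (hdisj : U ⊓ (P.B ⊓ P.N) = ⊥) (hind : P.B.index = p ^ (3 * n) + 1)
    (hU : Nat.card U = p ^ (3 * n)) (hHc : IsCyclic ↥(P.B ⊓ P.N))
    (hH : Nat.gcd 3 (p ^ n + 1) * Nat.card ↥(P.B ⊓ P.N) = p ^ (2 * n) - 1) :
    ∃ (o z : G ⧸ P.B), Hyp G (G ⧸ P.B) o z U (P.B ⊓ P.N) p n := by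
  classical
  haveI h2 : IsMultiplyPretransitive G (G ⧸ P.B) 2 := Cfsg.Agent.S0322.result P h1
  obtain ⟨-, ⟨⟨s, hs⟩⟩⟩ := Nat.card_eq_one_iff_unique.1 (show Nat.card P.S = 1 from h1)
  set o : G ⧸ P.B := ((1 : G) : G ⧸ P.B) with ho
  have hbase : ∀ g : G, g • o = o ↔ g ∈ P.B := fun g => by
    show ((g * 1 : G) : G ⧸ P.B) = _ ↔ _
    rw [mul_one, QuotientGroup.eq, mul_one]
    exact inv_mem_iff
  have hsB : s ∉ P.B := fun h => by
    refine P.conj_ne s hs (Set.ext fun b => ⟨?_, fun hb => ⟨s⁻¹ * b * s⁻¹,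
      mul_mem (mul_mem (inv_mem h) hb) (inv_mem h), by group⟩⟩)
    rintro ⟨c, hc, rfl⟩
    exact mul_mem (mul_mem h hc) h
  set z : G ⧸ P.B := s • o with hz
  have hne : o ≠ z := fun e => hsB ((hbase s).mp e.symm)
  have hHz : ∀ h ∈ P.B ⊓ P.N, h • z = z := fun h hh => by
    have h3 : s⁻¹ * h * s ∈ P.B := by simpa using P.conj_mem s⁻¹ (inv_mem (P.subset hs)) h hh
    rw [hz, show h • s • o = s • (s⁻¹ * h * s) • o by rw [← mul_smul, ← mul_smul]; congr 1; group, (hbase _).mpr h3]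
  have hnormal : (U.subgroupOf P.B).Normal :=
    ⟨fun u hu b => Subgroup.mem_subgroupOf.mpr (hUn b b.2 u (Subgroup.mem_subgroupOf.mp hu))⟩
  have hUN : U.subgroupOf P.B ⊔ (P.B ⊓ P.N).subgroupOf P.B = ⊤ := by
    rw [← Subgroup.subgroupOf_sup hUB inf_le_left, hsplit, Subgroup.subgroupOf_self]
  have hdec : ∀ b ∈ P.B, ∃ w ∈ U, ∃ h ∈ P.B ⊓ P.N, w * h = b := fun b hb => by
    have h3 : (⟨b, hb⟩ : P.B) ∈ U.subgroupOf P.B ⊔ (P.B ⊓ P.N).subgroupOf P.B := by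
      rw [hUN]; exact Subgroup.mem_top _
    haveI := hnormal
    obtain ⟨w, hw, h, hh, e⟩ := Subgroup.mem_sup_of_normal_left.mp h3
    exact ⟨w, hw, h, hh, congrArg Subtype.val e⟩
  have hreg : ∀ x, x ≠ o → ∃ w ∈ U, w • z = x := fun x hx => by
    obtain ⟨g, hgo, hgz⟩ := is_two_pretransitive_iff.mp h2 hne (Ne.symm hx)
    obtain ⟨w, hw, h, hh, rfl⟩ := hdec g ((hbase g).mp hgo)
    exact ⟨w, hw, by rw [← hgz, mul_smul, hHz h hh]⟩
  have hcardΩ : Nat.card (G ⧸ P.B) = p ^ (3 * n) + 1 := hind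
  have hfree : ∀ w ∈ U, w • z = z → w = 1 := by
    let f : U → {x : G ⧸ P.B // x ≠ o} := fun w => ⟨(w : G) • z, fun e => hne
      (smul_left_cancel (w : G) (e.trans ((hbase (w : G)).mpr (hUB w.2)).symm)).symm⟩
    haveI : Finite (G ⧸ P.B) := Quotient.finite _
    haveI := Fintype.ofFinite (G ⧸ P.B)
    haveI := Fintype.ofFinite U
    have hbij : Function.Bijective f := by
      refine (Fintype.bijective_iff_surjective_and_card f).mpr ⟨fun x => ?_, ?_⟩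
      · obtain ⟨w, hw, e⟩ := hreg x.1 x.2
        exact ⟨⟨w, hw⟩, Subtype.ext e⟩
      · rw [← Nat.card_eq_fintype_card, hU, Fintype.card_subtype_compl, Fintype.card_subtype_eq,
          ← Nat.card_eq_fintype_card, hcardΩ, Nat.add_sub_cancel]
    intro w hw e
    exact congrArg Subtype.val (hbij.1 (a₁ := ⟨w, hw⟩) (a₂ := 1) (Subtype.ext (e.trans (one_smul G z).symm)))
  refine ⟨o, z, hp, hp2, hn, hne, h2, ⟨fun {g g'} e => ?_⟩, fun w hw => (hbase w).mpr (hUB hw), fun g => ⟨fun hg =>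
    ⟨(hbase g).mpr hg.1, hHz g hg⟩, fun hg => ?_⟩, fun g hg w hw => hUn g ((hbase g).mp hg) w hw, hreg, hfree, hU,
    hcardΩ, hHc, hH⟩
  · rcases (MulAction.toPermHom G (G ⧸ P.B)).normal_ker.eq_bot_or_eq_top with h | h
    · exact (MonoidHom.ker_eq_bot_iff _).mp h (Equiv.ext e)
    · refine absurd ?_ hne
      have h3 : MulAction.toPermHom G (G ⧸ P.B) s = 1 := MonoidHom.mem_ker.mp (h ▸ Subgroup.mem_top s)
      exact (Equiv.ext_iff.mp h3 o).symm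
  · obtain ⟨w, hw, h, hh, rfl⟩ := hdec g ((hbase g).mp hg.1)
    have : w = 1 := hfree w hw (by have := hg.2; rwa [mul_smul, hHz h hh] at this)
    rw [this, one_mul]
    exact hh

/-- The hypotheses of the centraliser characterisation of `PSU₃(q)`. -/
theorem exists_cent (P : Cfsg.BNPair G) (h1 : P.rank = 1) {p n : ℕ} (hp : p.Prime) (hp2 : p ≠ 2) (hn : 1 ≤ n)
    (U : Subgroup G) (hUB : U ≤ P.B) (hUn : ∀ b ∈ P.B, ∀ u ∈ U, b * u * b⁻¹ ∈ U)
    (hsplit : U ⊔ (P.B ⊓ P.N) = P.B) (hdisj : U ⊓ (P.B ⊓ P.N) = ⊥) (hind : P.B.index = p ^ (3 * n) + 1)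
    (hU : Nat.card U = p ^ (3 * n)) (hHc : IsCyclic ↥(P.B ⊓ P.N))
    (hH : Nat.gcd 3 (p ^ n + 1) * Nat.card ↥(P.B ⊓ P.N) = p ^ (2 * n) - 1) :
    ∃ (F : Type) (_ : Field F) (_ : Fintype F) (c : Conj F) (f : W c →* G),
      c.q = p ^ n ∧ Fintype.card F = (p ^ n) ^ 2 ∧ U3Cent.Hyp c f := by
  obtain ⟨o, z, hy⟩ := exists_hyp P h1 hp hp2 hn U hUB hUn hsplit hdisj hind hU hHc hH
  obtain ⟨F, iF, iT, c, f, hq, hf⟩ := hy.exists_setting
  exact ⟨F, iF, iT, c, f, hq, hq ▸ c.card, hf⟩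

/-- The centraliser as a central quotient of `GU₂(q)`. -/
theorem exists_quotient {F : Type} [Field F] [Fintype F] {c : Conj F} {f : W c →* G} (hf : U3Cent.Hyp c f) :
    ∃ (Z : Subgroup (Cfsg.GU 2 F c.q)) (_ : Z.Normal) (t : G), Z ≤ Subgroup.center (Cfsg.GU 2 F c.q) ∧
      Odd (Nat.card Z) ∧ orderOf t = 2 ∧
      Nonempty (Subgroup.centralizer ({t} : Set G) ≃* (Cfsg.GU 2 F c.q ⧸ Z)) := by
  obtain ⟨e⟩ := exists_equiv c
  have hZc : f.ker.map e.toMonoidHom ≤ Subgroup.center (Cfsg.GU 2 F c.q) := by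
    rintro _ ⟨g, hg, rfl⟩
    refine Subgroup.mem_center_iff.mpr fun k => ?_
    obtain ⟨k, rfl⟩ := e.surjective k
    exact ((map_mul e k g).symm.trans (congrArg e ((hf.kers g hg).comm k).symm)).trans (map_mul e g k)
  haveI hZn : (f.ker.map e.toMonoidHom).Normal := Subgroup.Normal.map inferInstance _ e.surjective
  refine ⟨f.ker.map e.toMonoidHom, hZn, tt f, hZc, ?_, orderOf_eq_prime (by rw [pow_two, hf.tt_sq]) hf.tt_ne,
    ⟨?_⟩⟩
  · rw [← Nat.card_congr (Subgroup.equivMapOfInjective f.ker e.toMonoidHom e.injective).toEquiv]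
    exact hf.kero
  · exact ((MulEquiv.subgroupCongr hf.range).symm.trans (QuotientGroup.quotientKerEquivRange f).symm).trans
      (QuotientGroup.congr f.ker _ e rfl)

end CfsgLib.U3BN
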