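import Cfsg.Agent.Lib.U3BN.Base
import Cfsg.Agent.S2904

/-!
# The special element of the torus
-/

set_option autoImplicit false
set_option linter.unusedSectionVars false

namespace CfsgLib.U3BN

open MulAction

universe u v

variable {G : Type u} {Ω : Type v} [Group G] [MulAction G Ω] {o z : Ω} {U H : Subgroup G} {p n : ℕ}

/-- An element of `H` with `q + 1` fixed points, among which all other fixed points lie. -/
structure Special (U H : Subgroup G) (p n : ℕ) (x : G) : Prop where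
  mem : x ∈ H
  ne : x ≠ 1
  prime : (orderOf x).Prime
  card_cu : Nat.card (cu U x) = p ^ n
  le : ∀ k ∈ H, k ≠ 1 → cu U k ≤ cu U x
  kind : (n = 1 ∧ orderOf x = 2) ∨ (2 ≤ n ∧ orderOf x ≠ 2 ∧ ¬ orderOf x ∣ p ∧
    ∀ b, orderOf x ∣ p ^ b + 1 → n ≤ b)

namespace Hyp

variable (hy : Hyp G Ω o z U H p n)
include hy

theorem coprime_H : Nat.Coprime p (Nat.card H) := by
  refine (Nat.Prime.coprime_iff_not_dvd hy.prime).mpr fun h => ?_
  have h1 : p ∣ p ^ (2 * n) - 1 := hy.cardH ▸ dvd_mul_of_dvd_right h _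
  have h2 : p ∣ p ^ (2 * n) := dvd_pow_self p (by have := hy.n1; omega)
  have h3 := Nat.dvd_sub h2 h1
  have := hy.prime.two_le
  rw [Nat.sub_sub_self (Nat.one_le_pow _ _ (by omega))] at h3
  exact hy.prime.ne_one (Nat.dvd_one.mp h3)

theorem even_H : 2 ∣ Nat.card H := by
  have h1 : 2 ∣ p ^ (2 * n) - 1 := by
    obtain ⟨k, hk⟩ := hy.p_odd.pow (n := 2 * n)
    exact ⟨k, by omega⟩
  refine (Nat.Coprime.dvd_mul_left ?_).mp (hy.cardH.symm ▸ h1)
  rcases hy.dd_cases with h | h <;> rw [h] <;> decide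

variable [Finite G]

theorem cu_le_n {k : G} (hk : k ∈ H) (hk1 : k ≠ 1) : ∃ a, a ≤ n ∧ Nat.card (cu U k) = p ^ a := by
  obtain ⟨a, ha, h⟩ := hy.cu_cases hk hk1
  refine ⟨a, ?_, ha⟩
  rcases h with rfl | ⟨j, hj, e⟩
  · exact Nat.zero_le _
  · have : 3 * a ≤ (2 * j + 1) * a := Nat.mul_le_mul_right a (by omega)
    omega

theorem card_fix₂ {k x : G} (hk : k ∈ H) (hx : x ∈ H) :
    Nat.card {w : Ω // w ∈ {w : Ω | k • w = w} ∧ x • w = w} = Nat.card (cu (cu U k) x) + 1 := by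
  classical
  haveI := hy.finite_points
  rw [← Finite.card_option]
  refine (Nat.card_eq_of_bijective (fun w : Option (cu (cu U k) x) =>
    (w.elim ⟨o, hy.H_fix_o hk, hy.H_fix_o hx⟩ fun u => ⟨(u : G) • z,
      (hy.fix_iff hk (mem_cu.mp (mem_cu.mp u.2).1).1).mpr (mem_cu.mp (mem_cu.mp u.2).1).2,
      (hy.fix_iff hx (mem_cu.mp (mem_cu.mp u.2).1).1).mpr (mem_cu.mp u.2).2⟩ :
      {w : Ω // w ∈ {w : Ω | k • w = w} ∧ x • w = w})) ⟨?_, ?_⟩).symm
  · have hne : ∀ u : cu (cu U k) x, (u : G) • z ≠ o := fun u e =>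
      hy.ne.symm (smul_left_cancel (u : G) (e.trans (hy.U_fix _ (mem_cu.mp (mem_cu.mp u.2).1).1).symm))
    rintro (_ | u) (_ | v) e
    · rfl
    · exact absurd (congrArg Subtype.val e).symm (hne v)
    · exact absurd (congrArg Subtype.val e) (hne u)
    · exact congrArg some (Subtype.ext (hy.U_inj (mem_cu.mp (mem_cu.mp u.2).1).1 (mem_cu.mp (mem_cu.mp v.2).1).1
        (congrArg Subtype.val e)))
  · rintro ⟨w, hw, hw'⟩
    by_cases ho : w = o
    · exact ⟨none, Subtype.ext ho.symm⟩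
    · obtain ⟨u, hu, rfl⟩ := hy.reg w ho
      exact ⟨some ⟨u, mem_cu.mpr ⟨mem_cu.mpr ⟨hu, (hy.fix_iff hk hu).mp hw⟩, (hy.fix_iff hx hu).mp hw'⟩⟩, rfl⟩

theorem exists_special_big (hn : 2 ≤ n) : ∃ x, Special U H p n x := by
  haveI := hy.finite_points
  obtain ⟨r, hr, hrd, hprim⟩ := Cfsg.Agent.S2904.result p (2 * n) hy.prime.one_lt (by omega)
    (fun h => hy.p2 h.1) (fun h => by omega)
  have hprim' : ∀ i, 1 ≤ i → i < 2 * n → ¬ r ∣ p ^ i - 1 := fun i h1 h2 => hprim i h1 h2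
  have hrp : ¬ r ∣ p := fun h => by
    have h2 : r ∣ p ^ (2 * n) := dvd_pow h (by omega)
    have h3 := Nat.dvd_sub h2 hrd
    rw [Nat.sub_sub_self (Nat.one_le_pow _ _ hy.prime.pos)] at h3
    exact hr.ne_one (Nat.dvd_one.mp h3)
  have hr2 : r ≠ 2 := fun e => by
    refine hprim' 1 le_rfl (by omega) ?_
    obtain ⟨k, hk⟩ := hy.p_odd
    rw [e, pow_one, hk]
    exact ⟨k, by omega⟩
  have hr3 : r ≠ 3 := fun e => by
    subst e
    refine hprim' 2 (by omega) (by omega) ?_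
    have hm : p % 3 ≠ 0 := fun h => hrp (Nat.dvd_of_mod_eq_zero h)
    refine (Nat.modEq_iff_dvd' (Nat.one_le_pow _ _ hy.prime.pos)).mp ?_
    rw [Nat.ModEq, Nat.pow_mod]
    rcases (by omega : p % 3 = 1 ∨ p % 3 = 2) with h | h <;> rw [h] <;> decide
  have hrH : r ∣ Nat.card H := by
    refine (Nat.Coprime.dvd_mul_left ?_).mp (hy.cardH.symm ▸ hrd)
    refine (Nat.Prime.coprime_iff_not_dvd hr).mpr fun h => ?_
    rcases hy.dd_cases with e | e <;> rw [e] at h
    · exact hr.ne_one (Nat.dvd_one.mp h)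
    · exact hr3 ((Nat.prime_dvd_prime_iff_eq hr Nat.prime_three).mp h)
  haveI := Fact.mk hr
  obtain ⟨⟨x, hxH⟩, hx⟩ := exists_prime_orderOf_dvd_card' (G := H) r hrH
  rw [Subgroup.orderOf_mk] at hx
  have hx1 : x ≠ 1 := fun e => hr.ne_one (hx.symm.trans (by rw [e, orderOf_one]))
  have hxr : x ^ r = 1 := hx ▸ pow_orderOf_eq_one x
  have hpow : p ^ (2 * n) ≡ 1 [MOD r] :=
    ((Nat.modEq_iff_dvd' (Nat.one_le_pow _ _ hy.prime.pos)).mpr hrd).symm
  obtain ⟨a, han, ha⟩ := hy.cu_le_n hxH hx1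
  have hcong : p ^ (3 * n) ≡ p ^ a [MOD r] := by
    have h := mod_fix hr hxr (Set.univ : Set Ω) fun _ _ => trivial
    rw [Nat.card_congr (Equiv.Set.univ Ω), hy.cardΩ] at h
    have e : Nat.card {w : Ω // w ∈ (Set.univ : Set Ω) ∧ x • w = w} = Nat.card {w : Ω // x • w = w} :=
      Nat.card_congr (Equiv.subtypeEquivRight fun w => by simp)
    rw [e, hy.card_fix hxH, ha] at h
    exact Nat.ModEq.add_right_cancel' 1 h
  have haq : a = n := by
    have h1 : p ^ n ≡ p ^ a [MOD r] := by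
      refine Nat.ModEq.trans ?_ hcong
      rw [show 3 * n = 2 * n + n by ring, pow_add]
      simpa using (hpow.mul_right (p ^ n)).symm
    rcases prim_dvd_sub hr hrp hprim' han h1 with h | h <;> omega
  subst haq
  refine ⟨x, hxH, hx1, by rw [hx]; exact hr, ha, fun k hk hk1 => ?_,
    Or.inr ⟨hn, by rw [hx]; exact hr2, by rw [hx]; exact hrp, fun b hb => prim_le hy.n1 hr hr2 hprim' (hx ▸ hb)⟩⟩
  obtain ⟨b, hb, hbc⟩ := hy.cu_le_n hk hk1
  have hS : ∀ w ∈ {w : Ω | k • w = w}, x • w ∈ {w : Ω | k • w = w} := fun w hw => by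
    show k • x • w = x • w
    rw [← mul_smul, hy.comm_H hk hxH, mul_smul, hw]
  have h := mod_fix hr hxr _ hS
  rw [hy.card_fix₂ hk hxH] at h
  have e : Nat.card ↥({w : Ω | k • w = w}) = Nat.card (cu U k) + 1 := hy.card_fix hk
  rw [e, hbc] at h
  have hle : cu (cu U k) x ≤ cu U k := inf_le_left
  obtain ⟨c, hc, hcc⟩ := (Nat.dvd_prime_pow hy.prime).mp (hbc ▸ Subgroup.card_dvd_of_le hle)
  have h' := Nat.ModEq.add_right_cancel' 1 h
  rw [hcc] at h'
  have : b = c := by
    rcases prim_dvd_sub hr hrp hprim' hc h' with h | h <;> omega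
  have heq : cu (cu U k) x = cu U k := Subgroup.eq_of_le_of_card_ge hle (by rw [hbc, hcc, this])
  intro u hu
  rw [← heq] at hu
  exact mem_cu.mpr ⟨(mem_cu.mp (mem_cu.mp hu).1).1, (mem_cu.mp hu).2⟩

theorem exists_special_one (hn : n = 1) : ∃ x, Special U H p n x := by
  classical
  haveI := hy.finite_points
  haveI := Fact.mk hy.prime
  haveI := Fact.mk Nat.prime_two
  obtain ⟨⟨t, htH⟩, ht⟩ := exists_prime_orderOf_dvd_card' (G := H) 2 hy.even_H
  rw [Subgroup.orderOf_mk] at ht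
  have ht1 : t ≠ 1 := fun e => by rw [e, orderOf_one] at ht; omega
  haveI := hy.cyc
  obtain ⟨⟨g, hgH⟩, hg⟩ := IsCyclic.exists_generator (α := H)
  -- a non-trivial element centralising a non-trivial element of `U` forces `t` to centralise it
  have key : ∀ k ∈ H, k ≠ 1 → cu U k ≤ cu U t := fun k hk hk1 => by
    obtain ⟨a, ha, hac⟩ := hy.cu_le_n hk hk1
    rcases Nat.eq_zero_or_pos a with rfl | ha0
    · rw [pow_zero] at hac
      rw [Subgroup.card_eq_one.mp hac]
      exact bot_le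
    have ha1 : a = 1 := by omega
    rw [ha1, pow_one] at hac
    haveI : IsCyclic (cu U k) := isCyclic_of_prime_card hac
    intro u hu
    have hnorm : g * u * g⁻¹ ∈ cu U k := mem_cu.mpr ⟨hy.norm g (hy.H_fix_o hgH) u (mem_cu.mp hu).1, by
      calc k * (g * u * g⁻¹) = (k * g) * u * g⁻¹ := by group
        _ = (g * k) * u * g⁻¹ := by rw [hy.comm_H hk hgH]
        _ = g * (k * u) * g⁻¹ := by group
        _ = g * u * (k * g⁻¹) := by rw [(mem_cu.mp hu).2]; group
        _ = g * u * g⁻¹ * k := by rw [hy.comm_H hk (inv_mem hgH)]; group⟩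
    refine mem_cu.mpr ⟨(mem_cu.mp hu).1, ?_⟩
    by_cases hu1 : u = 1
    · rw [hu1, mul_one, one_mul]
    have hgen : Subgroup.zpowers (⟨u, hu⟩ : cu U k) = ⊤ := by
      refine zpowers_eq_top_of_prime_card hac ?_
      simpa [Subtype.ext_iff] using hu1
    obtain ⟨i, hi⟩ := Subgroup.mem_zpowers_iff.mp (hgen.symm ▸ Subgroup.mem_top (⟨_, hnorm⟩ : cu U k))
    have hi' : g * u * g⁻¹ = u ^ i := (congrArg Subtype.val hi).symm.trans (by simp)
    have hiter : ∀ m : ℕ, g ^ m * u * (g ^ m)⁻¹ = u ^ (i ^ m) := by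
      intro m
      induction m with
      | zero => simp
      | succ m ih =>
        calc g ^ (m + 1) * u * (g ^ (m + 1))⁻¹ = g * (g ^ m * u * (g ^ m)⁻¹) * g⁻¹ := by rw [pow_succ']; group
          _ = (g * u * g⁻¹) ^ (i ^ m) := by rw [ih, conj_zpow]
          _ = _ := by rw [hi', ← zpow_mul, pow_succ']
    have huo : orderOf u = p := by
      rw [← Subgroup.orderOf_mk u hu]; exact orderOf_eq_prime (by
        rw [← hac]; exact pow_card_eq_one') (by simpa [Subtype.ext_iff] using hu1)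
    have hip : (i : ZMod p) ≠ 0 := fun e => by
      rw [ZMod.intCast_zmod_eq_zero_iff_dvd, ← huo, orderOf_dvd_iff_zpow_eq_one, ← hi'] at e
      exact hu1 (conj_eq_one_iff.mp e)
    have hfix : g ^ (p - 1) * u * (g ^ (p - 1))⁻¹ = u := by
      rw [hiter, ← zpow_one u, ← zpow_mul, one_mul]
      rw [zpow_eq_zpow_iff_modEq, huo, ← ZMod.intCast_eq_intCast_iff, Int.cast_pow, Int.cast_one]
      exact ZMod.pow_card_sub_one_eq_one hip
    have htmem : t ∈ Subgroup.zpowers (g ^ (p - 1)) := by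
      have hord : orderOf g = Nat.card H := by
        rw [← Subgroup.orderOf_mk g hgH]; exact orderOf_eq_card_of_forall_mem_zpowers hg
      have hdiv : (p - 1) * 2 ∣ Nat.card H := by
        have h := hy.cardH
        rw [hn, mul_one, pow_one, show p ^ 2 - 1 = (p - 1) * (p + 1) by
          have := Nat.sq_sub_sq p 1
          rw [one_pow] at this
          rw [this, mul_comm]] at h
        obtain ⟨m, hm⟩ : 2 * Nat.gcd 3 (p + 1) ∣ p + 1 := by
          refine Nat.Coprime.mul_dvd_of_dvd_of_dvd ?_ ?_ (Nat.gcd_dvd_right _ _)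
          · rcases (Nat.dvd_prime Nat.prime_three).mp (Nat.gcd_dvd_left 3 (p + 1)) with h | h <;> rw [h] <;> decide
          · obtain ⟨k, hk⟩ := hy.p_odd; exact ⟨k + 1, by omega⟩
        refine ⟨m, Nat.eq_of_mul_eq_mul_left (Nat.gcd_pos_of_pos_left (p + 1) (by norm_num : 0 < 3)) ?_⟩
        rw [h]
        generalize Nat.gcd 3 (p + 1) = dd at hm ⊢
        rw [hm]; ring
      obtain ⟨m, hm⟩ := hdiv
      have hm' : Nat.card H = (p - 1) * (2 * m) := by rw [hm]; ring
      have hpos : 0 < (p - 1) * m := by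
        have hc : 0 < Nat.card H := Nat.card_pos
        rw [hm] at hc
        exact Nat.mul_pos (by have := hy.p3; omega) (Nat.pos_of_mul_pos_left hc)
      have ho : orderOf (g ^ ((p - 1) * m)) = 2 := by
        rw [orderOf_pow, hord, show Nat.card H = ((p - 1) * m) * 2 by rw [hm]; ring, Nat.gcd_mul_right_left,
          Nat.mul_div_cancel_left _ hpos]
      have := hy.zp_eq htH (pow_mem hgH ((p - 1) * m)) (ht.trans ho.symm)
      have h2 : t ∈ Subgroup.zpowers (g ^ ((p - 1) * m)) := this ▸ Subgroup.mem_zpowers t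
      refine Subgroup.zpowers_le.mpr ?_ h2
      rw [pow_mul]
      exact pow_mem (Subgroup.mem_zpowers _) m
    obtain ⟨j, hj⟩ := Subgroup.mem_zpowers_iff.mp htmem
    have hc : Commute (g ^ (p - 1)) u := mul_inv_eq_iff_eq_mul.mp hfix
    rw [← hj]
    exact (hc.zpow_left j).eq
  obtain ⟨a, ha, hac⟩ := hy.cu_le_n htH ht1
  refine ⟨t, htH, ht1, by rw [ht]; exact Nat.prime_two, ?_, key, Or.inl ⟨hn, ht⟩⟩
  rcases Nat.eq_zero_or_pos a with rfl | ha0
  swap
  · rw [hac, show a = n by omega]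
  -- otherwise `H` is semiregular outside the base points
  exfalso
  rw [pow_zero] at hac
  have hbot : ∀ k ∈ H, k ≠ 1 → cu U k = ⊥ := fun k hk hk1 =>
    le_bot_iff.mp (Subgroup.card_eq_one.mp hac ▸ key k hk hk1)
  let X : SubMulAction H Ω :=
    { carrier := {w | w ≠ o ∧ w ≠ z}
      smul_mem' := fun h w hw => ⟨fun e => hw.1 (by
          rw [show w = (h : G)⁻¹ • ((h : G) • w) from (inv_smul_smul _ _).symm]
          change (h : G)⁻¹ • (h • w) = o
          rw [e, inv_smul_of_fix (hy.H_fix_o h.2)]),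
        fun e => hw.2 (by
          rw [show w = (h : G)⁻¹ • ((h : G) • w) from (inv_smul_smul _ _).symm]
          change (h : G)⁻¹ • (h • w) = z
          rw [e, inv_smul_of_fix (hy.H_fix_z h.2)])⟩ }
  have hstab : ∀ w : X, stabilizer H w = ⊥ := fun w => (Subgroup.eq_bot_iff_forall _).mpr fun h hh => by
    by_contra h1
    obtain ⟨u, hu, e⟩ := hy.reg w.1 w.2.1
    have hw : (h : G) • (w : Ω) = w := congrArg Subtype.val hh
    have hm : u ∈ cu U (h : G) := mem_cu.mpr ⟨hu, (hy.fix_iff h.2 hu).mp (by rw [e]; exact hw)⟩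
    rw [hbot _ h.2 (fun e1 => h1 (Subtype.ext e1)), Subgroup.mem_bot] at hm
    rw [hm, one_smul] at e
    exact w.2.2 e.symm
  have hX : Nat.card X = p ^ (3 * n) - 1 := by
    have e : Nat.card X = Nat.card ↥(({o, z} : Set Ω)ᶜ) :=
      Nat.card_congr (Equiv.subtypeEquivRight fun w => by
        show (w ≠ o ∧ w ≠ z) ↔ _; simp)
    have := Set.ncard_add_ncard_compl ({o, z} : Set Ω)
    rw [Set.ncard_pair hy.ne, hy.cardΩ, ← Nat.card_coe_set_eq] at this
    omega
  have hdvd : Nat.card H ∣ p ^ (3 * n) - 1 := by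
    haveI := Fintype.ofFinite (orbitRel.Quotient H X)
    rw [← hX, Nat.card_congr (selfEquivSigmaOrbits H X), Nat.card_sigma]
    refine Finset.dvd_sum fun w _ => dvd_of_eq ?_
    rw [Nat.card_coe_set_eq, ← index_stabilizer, hstab, Subgroup.index_bot]
  subst hn
  have h1 := Nat.mul_dvd_mul_left (Nat.gcd 3 (p ^ 1 + 1)) hdvd
  rw [hy.cardH, pow_one, mul_one] at h1
  have hp1 : 1 ≤ p := hy.prime.pos
  have h2 : (p + 1) * (p - 1) ∣ Nat.gcd 3 (p + 1) * (p ^ 2 + p + 1) * (p - 1) := by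
    obtain ⟨k, rfl⟩ := Nat.exists_eq_add_of_le hp1
    rw [Nat.add_sub_cancel_left]
    convert h1 using 1
    · rw [show (1 + k) ^ 2 = (1 + k + 1) * k + 1 by ring, Nat.add_sub_cancel]
    · rw [show (1 + k) ^ (3 * 1) = ((1 + k) ^ 2 + (1 + k) + 1) * k + 1 by ring, Nat.add_sub_cancel, mul_assoc]
  have h3 := Nat.dvd_of_mul_dvd_mul_right (by have := hy.p3; omega) h2
  have h4 : p + 1 ∣ Nat.gcd 3 (p + 1) := by
    rw [mul_add, mul_one, show p ^ 2 + p = p * (p + 1) by ring, ← mul_assoc] at h3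
    exact (Nat.dvd_add_right (dvd_mul_left _ _)).mp h3
  have := Nat.le_of_dvd (Nat.gcd_pos_of_pos_left _ (by norm_num)) h4
  have := Nat.gcd_le_left (p + 1) (show 0 < 3 by norm_num)
  have := hy.p3
  omega

theorem exists_special : ∃ x, Special U H p n x := by
  rcases Nat.lt_or_ge n 2 with h | h
  · exact hy.exists_special_one (by have := hy.n1; omega)
  · exact hy.exists_special_big h

end Hyp

end CfsgLib.U3BN
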