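import Cfsg.Agent.Lib.U3BN.Kernel
import Mathlib.GroupTheory.Perm.Cycle.Type

/-!
# The action of a swapping flip on the torus
-/

set_option autoImplicit false
set_option linter.unusedSectionVars false

namespace CfsgLib.U3BN

open MulAction Pointwise

universe u v

variable {G : Type u} {Ω : Type v} [Group G] [MulAction G Ω] {o z : Ω} {U H : Subgroup G} {p n : ℕ} {t v : G}

/-- A flip interchanging the base points. -/
structure Swap (Ω : Type v) [MulAction G Ω] (o z : Ω) (U H : Subgroup G) (p n : ℕ) (t v : G) : Prop where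
  flip : IsFlip t v
  vo : v • o = z
  vz : v • z = o
  sq : v * v = 1
  ker : ker0 U H t = H ⊓ Subgroup.centralizer {v}
  card : Nat.gcd 3 (p ^ n + 1) * Nat.card (ker0 U H t) = p ^ n + 1

namespace Hyp

variable [Finite G] (hy : Hyp G Ω o z U H p n) (hf : Frame U H p n t)
include hy hf

theorem exists_swap' : ∃ v, Swap Ω o z U H p n t v := by
  obtain ⟨v, h1, h2, h3, h4, h5, h6⟩ := hy.exists_swap hf
  exact ⟨v, h1, h2, h3, h4, h5, h6⟩

/-- There is one flip at most for each fixed line. -/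
theorem card_flips : Nat.card {v : G // IsFlip t v} ≤ (p ^ n) ^ 2 - p ^ n := by
  haveI := hy.finite_points
  obtain ⟨x, hx, hb, -⟩ := hy.special_t hf
  rw [← hy.card_fixed_lines_eq hx hf.mem hf.sq hf.ne]
  refine Nat.card_le_card_of_injective (fun v : {v : G // IsFlip t v} => (⟨v.2.1.choose • base Ω x,
    isLine_base.smul _, by
      rw [hb]; exact ⟨(hy.flip_line hf v.2 v.2.1.choose_spec).1, (hy.flip_line hf v.2 v.2.1.choose_spec).2.1⟩⟩ :
      {L : Set Ω // IsLine x L ∧ t • L = L ∧ L ≠ base Ω x})) fun v w e => ?_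
  have ev := v.2.1.choose_spec
  have ew := w.2.1.choose_spec
  have e' : v.2.1.choose • base Ω t = w.2.1.choose • base Ω t := by rw [← hb]; exact congrArg Subtype.val e
  have h := (hy.smul_baseT hf).mp (show ((w.2.1.choose)⁻¹ * v.2.1.choose) • base Ω t = base Ω t by
    rw [mul_smul, e', inv_smul_smul])
  refine Subtype.ext (ev.trans (Eq.trans ?_ ew.symm))
  generalize v.2.1.choose = c1 at h ⊢
  generalize w.2.1.choose = c2 at h ⊢
  calc c1 * t * c1⁻¹ = c2 * ((c2⁻¹ * c1) * t) * c1⁻¹ := by group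
    _ = c2 * (t * (c2⁻¹ * c1)) * c1⁻¹ := by rw [h]
    _ = c2 * t * c2⁻¹ := by group

/-- At most `q - 1` flips interchange the base points. -/
theorem card_swaps : Nat.card {v : G // IsFlip t v ∧ v • o = z} ≤ p ^ n - 1 := by
  classical
  haveI := hy.finite_points
  set P := {w : Ω × Ω | w.1 ∈ base Ω t ∧ w.2 ∈ base Ω t ∧ w.1 ≠ w.2} with hP
  have hb : Nat.card ↥(base Ω t) = p ^ n + 1 := (hy.card_fix hf.mem).trans (by rw [hy.card_M hf])
  have hPc : Nat.card ↥P = (p ^ n + 1) * p ^ n := by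
    haveI := Fintype.ofFinite ↥(base Ω t)
    have e : Nat.card ↥P = Nat.card (Σ a : ↥(base Ω t), {b : ↥(base Ω t) // b ≠ a}) := Nat.card_congr
      { toFun := fun w => ⟨⟨w.1.1, w.2.1⟩, ⟨w.1.2, w.2.2.1⟩, fun e => w.2.2.2 (congrArg Subtype.val e).symm⟩
        invFun := fun s => ⟨(s.1.1, s.2.1.1), s.1.2, s.2.1.2, fun e => s.2.2 (Subtype.ext e.symm)⟩
        left_inv := fun _ => rfl
        right_inv := fun _ => rfl }
    rw [e, Nat.card_sigma]
    simp only [Nat.card_eq_fintype_card (α := {b : ↥(base Ω t) // _}), Fintype.card_subtype_compl,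
      Fintype.card_subtype_eq, Finset.sum_const, Finset.card_univ, smul_eq_mul]
    rw [← Nat.card_eq_fintype_card, hb, Nat.add_sub_cancel]
  have hto : ∀ w : ↥P, ∃ g, g * t = t * g ∧ g • o = w.1.1 ∧ g • z = w.1.2 := fun w =>
    hy.cent_to hf w.2.2.2 w.2.1 w.2.2.1
  choose d hdt hdo hdz using hto
  have hle : Nat.card (↥P × {v : G // IsFlip t v ∧ v • o = z}) ≤
      Nat.card ({v : G // IsFlip t v} × ↥(base Ω t)) := by
    refine Nat.card_le_card_of_injective (fun s => (⟨d s.1 * s.2.1 * (d s.1)⁻¹, ?_⟩, ⟨s.1.1.1, s.1.2.1⟩)) ?_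
    · obtain ⟨⟨⟨g, hg⟩, hc, hne⟩, -⟩ := s.2.2
      refine ⟨⟨d s.1 * g, by rw [hg]; group⟩, ?_, fun e => hne ?_⟩
      · exact (((show Commute (d s.1) t from hdt s.1).mul_left hc).mul_left
          ((show Commute (d s.1) t from hdt s.1).inv_left)).eq
      · exact mul_left_cancel ((mul_inv_eq_iff_eq_mul.mp e).trans (hdt s.1).symm)
    · rintro ⟨w, v, hv⟩ ⟨w', v', hv'⟩ e
      obtain ⟨e1, e2⟩ := Prod.ext_iff.mp e
      have ea : w.1.1 = w'.1.1 := congrArg Subtype.val e2
      have ec : d w * v * (d w)⁻¹ = d w' * v' * (d w')⁻¹ := congrArg Subtype.val e1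
      have eb : w.1.2 = w'.1.2 := by
        have h := congrArg (fun g : G => g • w.1.1) ec
        simp only [mul_smul] at h
        rw [show (d w)⁻¹ • w.1.1 = o by rw [inv_smul_eq_iff, hdo], ea,
          show (d w')⁻¹ • w'.1.1 = o by rw [inv_smul_eq_iff, hdo]] at h
        rw [hv.2, hv'.2, hdz, hdz] at h
        exact h
      obtain rfl : w = w' := Subtype.ext (Prod.ext ea eb)
      obtain rfl : v = v' := mul_left_cancel (mul_right_cancel ec)
      rfl
  rw [Nat.card_prod, Nat.card_prod, hPc, hb] at hle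
  have h2 := hle.trans (Nat.mul_le_mul_right _ (hy.card_flips hf))
  have h3 := hy.q3
  have h4 : (p ^ n + 1) * p ^ n * Nat.card {v : G // IsFlip t v ∧ v • o = z} ≤
      (p ^ n + 1) * p ^ n * (p ^ n - 1) := by
    refine h2.trans (le_of_eq ?_)
    rw [Nat.mul_sub, mul_one, mul_comm ((p ^ n) ^ 2 - p ^ n), Nat.mul_sub, mul_assoc, ← pow_two]
  exact Nat.le_of_mul_le_mul_left h4 (Nat.mul_pos (Nat.succ_pos _) (by omega))

variable [IsSimpleGroup G]

/-- An involution has a fixed point unless its permutation is even. -/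
theorem exists_fixed {u : G} (hu : u ^ 2 = 1) (hodd : Odd ((p ^ (3 * n) + 1) / 2)) : ∃ c : Ω, u • c = c := by
  classical
  haveI := hy.finite_points
  haveI := Fintype.ofFinite Ω
  by_contra hno
  push Not at hno
  set π := MulAction.toPermHom G Ω
  have hs : Equiv.Perm.sign (π u) = -1 := by
    rw [Equiv.Perm.sign_of_pow_two_eq_one (by rw [← map_pow, hu, map_one]),
      show Fintype.card (Function.fixedPoints ⇑(π u)) = 0 from Fintype.card_eq_zero_iff.mpr ⟨fun c => hno c.1 c.2⟩,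
      Nat.sub_zero, ← Nat.card_eq_fintype_card, hy.cardΩ, Odd.neg_one_pow hodd]
  rcases (Equiv.Perm.sign.comp π).normal_ker.eq_bot_or_eq_top with h | h
  · have hinj := (MonoidHom.ker_eq_bot_iff _).mp h
    have h1 : Nat.card G ≤ Nat.card ℤˣ := Nat.card_le_card_of_injective _ hinj
    rw [show Nat.card ℤˣ = 2 by rw [Nat.card_eq_fintype_card]; rfl, hy.card_G] at h1
    have h2 : 1 ≤ Nat.card H := Nat.card_pos
    have h3 := hy.pow_three_mul
    have h4 : 3 ≤ (p ^ n) ^ 3 := hy.q3.trans (Nat.le_self_pow (by norm_num) _)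
    rw [h3] at h1
    have h5 : 4 * (3 * 1) ≤ ((p ^ n) ^ 3 + 1) * ((p ^ n) ^ 3 * Nat.card H) :=
      Nat.mul_le_mul (by omega) (Nat.mul_le_mul h4 h2)
    omega
  · have : u ∈ (Equiv.Perm.sign.comp π).ker := h ▸ Subgroup.mem_top u
    rw [MonoidHom.mem_ker, MonoidHom.comp_apply, hs] at this
    exact absurd this (by decide)

variable (hv : Swap Ω o z U H p n t v)
include hv

omit [IsSimpleGroup G] hf in
theorem v_inv : v⁻¹ = v := inv_eq_of_mul_eq_one_right hv.sq

omit [IsSimpleGroup G] in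
theorem swap_mem_H {h : G} (hh : h ∈ H) : v * h * v ∈ H := by
  rw [hy.mem_H, mul_smul, mul_smul, hv.vo, hy.H_fix_z hh, hv.vz, mul_smul, mul_smul, hv.vz, hy.H_fix_o hh, hv.vo]
  exact ⟨rfl, rfl⟩

/-- The flip acts on the torus as `h ↦ h ^ (-q)`. -/
theorem swap_conj {h : G} (hh : h ∈ H) : v * h * v * h ^ (p ^ n) = 1 := by
  classical
  haveI := hy.cyc
  let _ := IsCyclic.commGroup (α := H)
  let φ : H →* H := MonoidHom.mk' (fun k => ⟨v * k * v, hy.swap_mem_H hf hv k.2⟩) fun a b => Subtype.ext (by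
    show v * (a * b : G) * v = v * a * v * (v * b * v)
    rw [show v * (a : G) * v * (v * b * v) = v * a * (v * v) * b * v by group, hv.sq]; group)
  obtain ⟨g, hg⟩ := IsCyclic.exists_generator (α := H)
  suffices hgg : φ g * g ^ (p ^ n) = 1 by
    obtain ⟨i, hi⟩ := Subgroup.mem_zpowers_iff.mp (hg ⟨h, hh⟩)
    have h1 : φ ⟨h, hh⟩ * (⟨h, hh⟩ : H) ^ (p ^ n) = 1 := by
      rw [← hi, map_zpow, ← zpow_natCast, ← zpow_mul, mul_comm i, zpow_mul, zpow_natCast, ← mul_zpow, hgg, one_zpow]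
    exact congrArg Subtype.val h1
  have hord : orderOf g = Nat.card H := orderOf_eq_card_of_forall_mem_zpowers hg
  set K := (ker0 U H t).subgroupOf H with hK
  set e1 := Nat.card (ker0 U H t) with he1
  have hKc : Nat.card K = e1 := Nat.card_congr (Subgroup.subgroupOfEquivOfLe inf_le_left).toEquiv
  have hmemK : ∀ k : H, φ k = k → k ^ e1 = 1 := fun k hk => by
    have hk' : k ∈ K := by
      rw [hK, Subgroup.mem_subgroupOf, hv.ker]
      refine ⟨k.2, Subgroup.mem_centralizer_singleton_iff.mpr ?_⟩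
      have e := congrArg Subtype.val hk
      change v * (k : G) * v = k at e
      calc (k : G) * v = v * k * v * v := by rw [e]
        _ = v * k := by rw [mul_assoc, hv.sq, mul_one]
    rw [← hKc]
    exact orderOf_dvd_iff_pow_eq_one.mp (Subgroup.orderOf_dvd_natCard K hk')
  have hH := hy.cardH
  rw [hy.pow_two_mul] at hH
  have hsq : (p ^ n) ^ 2 - 1 = (p ^ n + 1) * (p ^ n - 1) := by
    have := Nat.sq_sub_sq (p ^ n) 1
    rwa [one_pow] at this
  have hHe : Nat.card H = e1 * (p ^ n - 1) := by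
    refine Nat.eq_of_mul_eq_mul_left (Nat.gcd_pos_of_pos_left (p ^ n + 1) (by norm_num : 0 < 3)) ?_
    rw [hH, ← mul_assoc, hv.card, hsq]
  have hφφ : ∀ k, φ (φ k) = k := fun k => Subtype.ext (by
    show v * (v * k * v) * v = k
    rw [show v * (v * (k : G) * v) * v = v * v * k * (v * v) by group, hv.sq, one_mul, mul_one])
  -- the two congruences
  have hA : (φ g * g) ^ e1 = 1 := hmemK _ (by rw [map_mul, hφφ, mul_comm])
  have hB : (φ g * g⁻¹) ^ (p ^ n - 1) = 1 := by
    let ψ : H →* H := φ * (MonoidHom.id H)⁻¹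
    have hker : ψ.ker ≤ K := fun k hk => by
      have hk' : φ k = k := mul_inv_eq_one.mp hk
      rw [hK, Subgroup.mem_subgroupOf, hv.ker]
      refine ⟨k.2, Subgroup.mem_centralizer_singleton_iff.mpr ?_⟩
      have e := congrArg Subtype.val hk'
      change v * (k : G) * v = k at e
      calc (k : G) * v = v * k * v * v := by rw [e]
        _ = v * k := by rw [mul_assoc, hv.sq, mul_one]
    have hker' : ψ.ker = K := le_antisymm hker fun k hk => by
      rw [hK, Subgroup.mem_subgroupOf, hv.ker] at hk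
      refine mul_inv_eq_one.mpr (Subtype.ext ?_)
      show v * (k : G) * v = k
      rw [← Subgroup.mem_centralizer_singleton_iff.mp hk.2, mul_assoc, hv.sq, mul_one]
    have hr : Nat.card ψ.range = p ^ n - 1 := by
      have h1 := Subgroup.card_eq_card_quotient_mul_card_subgroup ψ.ker
      rw [Nat.card_congr (QuotientGroup.quotientKerEquivRange ψ).toEquiv, hker', hKc, hHe, mul_comm] at h1
      exact (Nat.eq_of_mul_eq_mul_right (by rw [he1]; exact Nat.card_pos) h1).symm
    rw [← hr]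
    exact orderOf_dvd_iff_pow_eq_one.mp (Subgroup.orderOf_dvd_natCard ψ.range ⟨g, rfl⟩)
  set w := φ g * g ^ (p ^ n) with hw
  have h3 := hy.q3
  have hwA : w ^ e1 = 1 := by
    have e : g ^ (p ^ n) = g * g ^ (p ^ n - 1) := by rw [← pow_succ', Nat.sub_add_cancel (by omega)]
    rw [hw, e, ← mul_assoc, mul_pow, hA, one_mul, ← pow_mul, mul_comm (p ^ n - 1), ← hHe, ← hord, pow_orderOf_eq_one]
  have hwB : w ^ (p ^ n - 1) = 1 := by
    have e : w = φ g * g⁻¹ * g ^ (p ^ n + 1) := by rw [hw, pow_succ']; group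
    rw [e, mul_pow, hB, one_mul, ← pow_mul, ← hsq, ← hH, ← hord, mul_comm, pow_mul, pow_orderOf_eq_one, one_pow]
  have hw2 : w ^ 2 = 1 := by
    have h1 : orderOf w ∣ 2 := by
      have ha := orderOf_dvd_of_pow_eq_one hwA
      have hb := orderOf_dvd_of_pow_eq_one hwB
      have hc : orderOf w ∣ p ^ n + 1 := ha.trans ⟨Nat.gcd 3 (p ^ n + 1), by rw [mul_comm, hv.card]⟩
      have := Nat.dvd_sub hc hb
      rwa [show p ^ n + 1 - (p ^ n - 1) = 2 by omega] at this
    exact orderOf_dvd_iff_pow_eq_one.mp h1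
  by_contra hne
  -- so `w` is the involution
  haveI := Fact.mk Nat.prime_two
  have hwo : orderOf w = 2 := orderOf_eq_prime hw2 hne
  have hto : orderOf (⟨t, hf.mem⟩ : H) = 2 := orderOf_eq_prime (Subtype.ext hf.sq) fun e => hf.ne (congrArg Subtype.val e)
  have hinv_unique : ∀ k : H, k ^ 2 = 1 → k ≠ 1 → k = ⟨t, hf.mem⟩ := fun k hk hk1 => by
    have h1 := hy.zp_eq k.2 hf.mem (by
      rw [Subgroup.orderOf_coe, orderOf_eq_prime hk hk1]
      exact (orderOf_eq_prime hf.sq hf.ne).symm)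
    have h2 : (k : G) ∈ Subgroup.zpowers t := h1 ▸ Subgroup.mem_zpowers _
    obtain ⟨i, hi⟩ := Subgroup.mem_zpowers_iff.mp h2
    rcases Int.even_or_odd' i with ⟨j, rfl | rfl⟩
    · rw [zpow_mul, show t ^ (2 : ℤ) = 1 by rw [show (2 : ℤ) = ((2 : ℕ) : ℤ) from rfl, zpow_natCast, hf.sq],
        one_zpow] at hi
      exact absurd (Subtype.ext hi.symm) hk1
    · rw [zpow_add, zpow_mul, show t ^ (2 : ℤ) = 1 by rw [show (2 : ℤ) = ((2 : ℕ) : ℤ) from rfl, zpow_natCast, hf.sq],
        one_zpow, one_mul, zpow_one] at hi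
      exact Subtype.ext hi.symm
  set T : H := ⟨t, hf.mem⟩ with hT
  have hwT : w = T := hinv_unique w hw2 hne
  have hphi : φ g = T * (g ^ (p ^ n))⁻¹ := by rw [← hwT, hw]; group
  have hphim : ∀ m, Odd m → φ (g ^ m) = T * (g ^ (p ^ n * m))⁻¹ := fun m hm => by
    rw [map_pow, hphi, mul_pow, inv_pow, ← pow_mul]
    obtain ⟨j, rfl⟩ := hm
    rw [show T ^ (2 * j + 1) = T by rw [pow_succ, pow_mul, show T ^ 2 = 1 from Subtype.ext hf.sq, one_pow, one_mul]]
  obtain ⟨m, hm⟩ : 2 ∣ p ^ n - 1 := by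
    obtain ⟨j, hj⟩ := hy.q_odd; exact ⟨j, by omega⟩
  have hgm : g ^ (e1 * m) = T := by
    refine hinv_unique _ ?_ fun e => ?_
    · rw [← pow_mul, show e1 * m * 2 = Nat.card H by rw [hHe, hm]; ring, ← hord, pow_orderOf_eq_one]
    · have := Nat.le_of_dvd (Nat.mul_pos (by rw [he1]; exact Nat.card_pos) (by omega)) (orderOf_dvd_of_pow_eq_one e)
      rw [hord, hHe, hm] at this
      have hpos : 0 < e1 := by rw [he1]; exact Nat.card_pos
      have := Nat.le_of_mul_le_mul_left this hpos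
      omega
  have hdd : Odd (Nat.gcd 3 (p ^ n + 1)) := by rcases hy.dd_cases with e | e <;> rw [e] <;> decide
  rcases Nat.even_or_odd m with hme | hmo
  swap
  · -- `q ≡ 3 mod 4`: `g ^ m` would be fixed
    have hfix : φ (g ^ m) = g ^ m := by
      rw [hphim m hmo, mul_inv_eq_iff_eq_mul, ← pow_add]
      have e : m + p ^ n * m = Nat.gcd 3 (p ^ n + 1) * (e1 * m) := by rw [← mul_assoc, hv.card]; ring
      obtain ⟨j, hj⟩ := hdd
      rw [e, pow_mul', hgm, hj, pow_succ, pow_mul, show T ^ 2 = 1 from Subtype.ext hf.sq, one_pow, one_mul]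
    have h1 := hmemK _ hfix
    rw [← pow_mul, mul_comm, hgm] at h1
    exact hf.ne (congrArg Subtype.val h1)
  · -- `q ≡ 1 mod 4`: there would be an involution with an odd permutation
    obtain ⟨e, he⟩ : 2 ∣ e1 := by
      have h1 : 2 ∣ Nat.gcd 3 (p ^ n + 1) * e1 := by
        rw [hv.card]; obtain ⟨j, hj⟩ := hy.q_odd; exact ⟨j + 1, by omega⟩
      exact (Nat.Coprime.dvd_mul_left (Nat.coprime_two_left.mpr hdd)).mp h1
    obtain ⟨k₀, hk⟩ := hme
    have heodd : Odd e := by
      have h1 : Nat.gcd 3 (p ^ n + 1) * (2 * e) = p ^ n + 1 := he ▸ hv.card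
      rcases Nat.even_or_odd e with ⟨j, rfl⟩ | h
      · exfalso
        have : p ^ n + 1 = 4 * (Nat.gcd 3 (p ^ n + 1) * j) := h1.symm.trans (by ring)
        omega
      · exact h
    have hje : φ (g ^ e) = (g ^ e)⁻¹ := by
      rw [hphim e heodd, mul_inv_eq_iff_eq_mul, eq_inv_mul_iff_mul_eq, ← hgm, ← pow_add]
      congr 1
      rw [he]
      obtain ⟨r, hr⟩ : ∃ r, p ^ n = r + 1 := ⟨p ^ n - 1, by omega⟩
      rw [hr, Nat.add_sub_cancel] at hm
      rw [hr, hm]
      ring
    have hoj : orderOf (g ^ e) = 2 * (p ^ n - 1) := by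
      rw [orderOf_pow, hord, hHe, he, show 2 * e * (p ^ n - 1) = e * (2 * (p ^ n - 1)) by ring, Nat.gcd_mul_right_left,
        Nat.mul_div_cancel_left _ (by obtain ⟨j, hj⟩ := heodd; omega)]
    have hu : ∀ k : Subgroup.zpowers (g ^ e), IsFlip t (v * (k.1 : G)) ∧ (v * (k.1 : G)) • o = z := fun k => by
      have hkinv : φ k.1 = k.1⁻¹ := by
        obtain ⟨i, hi⟩ := Subgroup.mem_zpowers_iff.mp k.2
        rw [← hi, map_zpow, hje, inv_zpow]
      have hkinv' : v * (k.1 : G) * v = (k.1 : G)⁻¹ := congrArg Subtype.val hkinv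
      have huo : (v * (k.1 : G)) • o = z := by rw [mul_smul, hy.H_fix_o k.1.2, hv.vo]
      refine ⟨?_, huo⟩
      set u := v * (k.1 : G) with hu
      have hu2 : u ^ 2 = 1 := by
        rw [pow_two, hu, show v * (k.1 : G) * (v * (k.1 : G)) = v * (k.1 : G) * v * (k.1 : G) by group, hkinv',
          inv_mul_cancel]
      have hu1 : u ≠ 1 := fun e1 => hy.ne (by rw [e1, one_smul] at huo; exact huo)
      have hut : u * t = t * u := by
        rw [hu, mul_assoc, hy.comm_t_H hf k.1.2, ← mul_assoc, hv.flip.2.1, mul_assoc]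
      refine ⟨?_, hut, fun e1 => hy.ne (by rw [e1, hy.H_fix_o hf.mem] at huo; exact huo)⟩
      haveI := hy.finite_points
      obtain ⟨c, hc⟩ := hy.exists_fixed hf hu2 (by
        refine Nat.odd_iff.mpr ?_
        rw [hy.pow_three_mul]
        obtain ⟨r, hr⟩ : ∃ r, p ^ n = 4 * r + 1 := ⟨k₀, by omega⟩
        rw [hr, show (4 * r + 1) ^ 3 + 1 = 2 * (2 * (16 * r ^ 3 + 12 * r ^ 2 + 3 * r) + 1) by ring,
          Nat.mul_div_cancel_left _ (by norm_num), Nat.add_mod, Nat.mul_mod_right])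
      obtain ⟨c', hc', hne'⟩ : ∃ c', u • c' = c' ∧ c' ≠ c := by
        by_contra hno
        push Not at hno
        have h1 := mod_fix Nat.prime_two hu2 (Set.univ : Set Ω) fun _ _ => trivial
        haveI : Subsingleton {w : Ω // w ∈ (Set.univ : Set Ω) ∧ u • w = w} :=
          ⟨fun a b => Subtype.ext ((hno a.1 a.2.2).trans (hno b.1 b.2.2).symm)⟩
        haveI : Nonempty {w : Ω // w ∈ (Set.univ : Set Ω) ∧ u • w = w} := ⟨⟨c, trivial, hc⟩⟩
        rw [Nat.card_congr (Equiv.Set.univ Ω), hy.cardΩ, Nat.card_unique] at h1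
        have h5 : Odd (p ^ (3 * n)) := hy.p_odd.pow
        obtain ⟨j, hj⟩ := h5
        rw [hj, Nat.ModEq] at h1
        omega
      obtain ⟨d, da, db⟩ := hy.exists_to hne'.symm
      have hd : d⁻¹ * u * d ∈ H := hy.conj_H (by rw [da, hc]) (by rw [db, hc'])
      have h1 := hinv_unique ⟨_, hd⟩ (Subtype.ext (by
          show (d⁻¹ * u * d) ^ 2 = 1
          rw [pow_two, show d⁻¹ * u * d * (d⁻¹ * u * d) = d⁻¹ * (u * u) * d by group, ← pow_two u, hu2]; group))
        (fun e1 => hu1 (by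
          have e2 := congrArg (fun y : H => d * (y : G) * d⁻¹) e1
          simpa [mul_assoc] using e2))
      exact ⟨d, by rw [← show d⁻¹ * u * d = t from congrArg Subtype.val h1]; group⟩
    have hle := (Nat.card_le_card_of_injective
      (fun k : Subgroup.zpowers (g ^ e) => (⟨v * (k.1 : G), hu k⟩ : {v : G // IsFlip t v ∧ v • o = z}))
      fun a b e1 => Subtype.ext (Subtype.ext (mul_left_cancel (congrArg Subtype.val e1)))).trans (hy.card_swaps hf)
    rw [Nat.card_zpowers, hoj] at hle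
    omega

end Hyp

end CfsgLib.U3BN
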