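import Cfsg.Agent.Lib.U3BN.Swap

/-!
# The torus acts irreducibly on the translations of the line
-/

set_option autoImplicit false
set_option linter.unusedSectionVars false

namespace CfsgLib.U3BN

open MulAction Pointwise

universe u v

variable {G : Type u} {Ω : Type v} [Group G] [MulAction G Ω] {o z : Ω} {U H : Subgroup G} {p n : ℕ} {t v g : G}

namespace Hyp

variable [Finite G] (hy : Hyp G Ω o z U H p n) (hf : Frame U H p n t)
include hy hf

theorem conj_M {h : G} (hh : h ∈ H) {m : G} (hm : m ∈ cu U t) : h * m * h⁻¹ ∈ cu U t := by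
  refine mem_cu.mpr ⟨hy.norm h (hy.H_fix_o hh) m (mem_cu.mp hm).1, ?_⟩
  have h1 : Commute t h := hy.comm_H hf.mem hh
  exact ((h1.mul_right (mem_cu.mp hm).2).mul_right h1.inv_right).eq

variable (hv : Swap Ω o z U H p n t v) (hgH : g ∈ H) (hgen : ∀ h ∈ H, ∃ i : ℕ, g ^ i = h)
include hv hgH hgen

omit hv hf in
theorem order_gen : orderOf g = Nat.card H := by
  rw [← Subgroup.orderOf_mk g hgH]
  refine orderOf_eq_card_of_forall_mem_zpowers fun h => ?_
  obtain ⟨i, hi⟩ := hgen h h.2
  exact ⟨i, Subtype.ext (by simpa using hi)⟩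

omit hgH hgen in
theorem card_H_eq : Nat.card H = Nat.card (ker0 U H t) * (p ^ n - 1) := by
  refine Nat.eq_of_mul_eq_mul_left (Nat.gcd_pos_of_pos_left (p ^ n + 1) (by norm_num : 0 < 3)) ?_
  rw [hy.cardH, ← mul_assoc, hv.card, hy.pow_two_mul]
  have := Nat.sq_sub_sq (p ^ n) 1
  rwa [one_pow] at this

theorem pow_mem_ker0 {i : ℕ} : g ^ i ∈ ker0 U H t ↔ p ^ n - 1 ∣ i := by
  classical
  haveI := hy.cyc
  have hpos : 0 < Nat.card (ker0 U H t) := Nat.card_pos
  have hord := hy.order_gen hgH hgen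
  have hH := hy.card_H_eq hf hv
  have h3 := hy.q3
  constructor
  · intro h
    have h1 : g ^ (i * Nat.card (ker0 U H t)) = 1 := by
      rw [pow_mul]; exact orderOf_dvd_iff_pow_eq_one.mp (Subgroup.orderOf_dvd_natCard _ h)
    have h2 := orderOf_dvd_of_pow_eq_one h1
    rw [hord, hH, mul_comm] at h2
    exact Nat.dvd_of_mul_dvd_mul_right hpos h2
  · rintro ⟨j, rfl⟩
    rw [pow_mul]
    refine pow_mem ?_ j
    -- the kernel is the subgroup of its order
    obtain ⟨k, hk⟩ : ∃ k : G, Subgroup.zpowers k = ker0 U H t := by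
      haveI : IsCyclic (ker0 U H t) :=
        isCyclic_of_injective (Subgroup.inclusion (inf_le_left : ker0 U H t ≤ H)) (Subgroup.inclusion_injective _)
      obtain ⟨⟨k, hk⟩, hkg⟩ := IsCyclic.exists_generator (α := ker0 U H t)
      refine ⟨k, le_antisymm (Subgroup.zpowers_le.mpr hk) fun y hy' => ?_⟩
      obtain ⟨a, ha⟩ := Subgroup.mem_zpowers_iff.mp (hkg ⟨y, hy'⟩)
      exact ⟨a, by simpa using congrArg Subtype.val ha⟩
    have hkK : k ∈ ker0 U H t := hk ▸ Subgroup.mem_zpowers k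
    rw [← hk, ← hy.zp_eq (pow_mem hgH _) (mem_ker0.mp hkK).1 ?_]
    · exact Subgroup.mem_zpowers _
    rw [← Nat.card_zpowers k, hk, orderOf_pow, hord, hH, Nat.gcd_mul_left_left,
      Nat.mul_div_cancel _ (by omega)]

/-- An invariant subgroup of the translations is trivial or everything. -/
theorem irreducible {A : Subgroup G} (hA : A ≤ cu U t) (hgA : ∀ a ∈ A, g * a * g⁻¹ ∈ A) :
    A = ⊥ ∨ A = cu U t := by
  classical
  haveI := Fact.mk hy.prime
  obtain ⟨j, hj, hjc⟩ := (Nat.dvd_prime_pow hy.prime).mp (hy.card_M hf ▸ Subgroup.card_dvd_of_le hA)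
  rcases Nat.eq_zero_or_pos j with rfl | hj0
  · exact Or.inl (Subgroup.card_eq_one.mp (hjc.trans (pow_zero p)))
  rcases eq_or_lt_of_le hj with rfl | hjn
  · exact Or.inr (Subgroup.eq_of_le_of_card_ge hA (by rw [hjc, hy.card_M hf]))
  exfalso
  have h3 := hy.p3
  have hfull : ∀ k : G, k ∈ H → k ∉ ker0 U H t → ∀ b, Nat.card (cu U k) = p ^ b → b < n := by
    intro k hk hkK b hb
    by_contra hbn
    push Not at hbn
    have hk1 : k ≠ 1 := fun e => hkK (e ▸ one_mem _)
    have hle := hy.le_M hf hk hk1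
    have heq : cu U k = cu U t := Subgroup.eq_of_le_of_card_ge hle (by
      rw [hb, hy.card_M hf]; exact Nat.pow_le_pow_right hy.prime.pos hbn)
    exact hkK (mem_ker0.mpr ⟨hk, fun m hm => (mem_cu.mp (heq.symm ▸ hm)).2.symm⟩)
  rcases Nat.lt_or_ge n 3 with hn2 | hn3
  · -- `n = 2`: the power `g ^ (p - 1)` would be semiregular outside `A`
    obtain rfl : n = 2 := by omega
    obtain rfl : j = 1 := by omega
    rw [pow_one] at hjc
    obtain ⟨a0, ha0, ha01⟩ : ∃ a ∈ A, a ≠ 1 := (Subgroup.ne_bot_iff_exists_ne_one).mp (fun e => by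
      rw [e, Subgroup.card_bot] at hjc; omega) |>.elim fun a ha => ⟨a.1, a.2, fun e => ha (Subtype.ext e)⟩
    have ha0o : orderOf a0 = p := by
      rw [← Subgroup.orderOf_mk a0 ha0]
      exact orderOf_eq_prime (by rw [← hjc]; exact pow_card_eq_one') (by simpa [Subtype.ext_iff] using ha01)
    have hAz : Subgroup.zpowers a0 = A :=
      Subgroup.eq_of_le_of_card_ge (Subgroup.zpowers_le.mpr ha0) (by rw [Nat.card_zpowers, ha0o, hjc])
    set h := g ^ (p - 1) with hh
    have hfix : ∀ a ∈ A, h * a = a * h := fun a ha => by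
      obtain ⟨i, rfl⟩ := Subgroup.mem_zpowers_iff.mp (hAz.symm ▸ ha)
      exact (Commute.zpow_right (hy.pow_fix ha0o (by rw [hAz]; exact hgA _ ha0)) i).eq
    have hp2 : p ^ 2 - 1 = (p - 1) * (p + 1) := by
      have := Nat.sq_sub_sq p 1
      rw [one_pow] at this
      rw [this, mul_comm]
    have hhK : ∀ i : ℕ, h ^ i ∈ ker0 U H t ↔ p + 1 ∣ i := fun i => by
      rw [hh, ← pow_mul, hy.pow_mem_ker0 hf hv hgH hgen, hp2]
      exact ⟨fun e => Nat.dvd_of_mul_dvd_mul_left (by omega) e, fun e => Nat.mul_dvd_mul_left _ e⟩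
    let X := {m : G // m ∈ cu U t ∧ m ∉ A}
    have hhH : h ∈ H := pow_mem hgH _
    have hmap : ∀ w : X, h * w.1 * h⁻¹ ∈ cu U t ∧ h * w.1 * h⁻¹ ∉ A := fun w => by
      refine ⟨hy.conj_M hf hhH w.2.1, fun e => w.2.2 ?_⟩
      have e' := hfix _ e
      have : w.1 = h * w.1 * h⁻¹ := mul_left_cancel (a := h) (by rw [e']; group)
      rw [this]; exact e
    let π : Equiv.Perm X := Equiv.ofBijective (fun w => ⟨h * w.1 * h⁻¹, hmap w⟩)
      (Finite.injective_iff_bijective.mp fun a b e => Subtype.ext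
        (mul_left_cancel (mul_right_cancel (congrArg Subtype.val e))))
    have hπ : ∀ (i : ℕ) (w : X), ((π ^ i) w).1 = h ^ i * w.1 * (h ^ i)⁻¹ := by
      intro i
      induction i with
      | zero => intro w; simp
      | succ i ih =>
        intro w
        rw [pow_succ', Equiv.Perm.mul_apply]
        show h * ((π ^ i) w).1 * h⁻¹ = _
        rw [ih, pow_succ']; group
    have hfree : ∀ (i : ℕ) (w : X), (π ^ i) w = w → p + 1 ∣ i := by
      intro i w e
      rw [← hhK]
      by_contra hK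
      have hk : h ^ i ∈ H := pow_mem hhH i
      obtain ⟨b, -, hb⟩ := hy.exists_cu_pow (h ^ i)
      have hb2 := hfull _ hk hK b hb
      have hle : A ≤ cu U (h ^ i) := fun a ha => mem_cu.mpr ⟨(mem_cu.mp (hA ha)).1,
        ((show Commute h a from hfix a ha).pow_left i).eq⟩
      have hAe : A = cu U (h ^ i) := Subgroup.eq_of_le_of_card_ge hle (by
        rw [hb, hjc]
        calc p ^ b ≤ p ^ 1 := Nat.pow_le_pow_right (by omega) (by omega)
          _ = p := pow_one p)
      refine w.2.2 (hAe.ge ?_)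
      exact mem_cu.mpr ⟨(mem_cu.mp w.2.1).1, mul_inv_eq_iff_eq_mul.mp (by rw [← hπ, e])⟩
    have hper : ∀ i, p + 1 ∣ i → π ^ i = 1 := fun i hi => Equiv.ext fun w => Subtype.ext (by
      rw [hπ, Equiv.Perm.one_apply, ← (mem_ker0.mp ((hhK i).mpr hi)).2 w.1 w.2.1, mul_inv_cancel_right])
    have hXc : Nat.card X = p ^ 2 - p := by
      rw [show Nat.card X = Set.ncard ((cu U t : Set G) \ (A : Set G)) from Nat.card_coe_set_eq _,
        Set.ncard_sdiff hA, ← Nat.card_coe_set_eq, ← Nat.card_coe_set_eq]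
      rw [show Nat.card ↥(cu U t : Set G) = p ^ 2 from hy.card_M hf, show Nat.card ↥(A : Set G) = p from hjc]
    have hlt : p < p ^ 2 := by rw [pow_two]; nlinarith
    haveI : Nonempty X := (Nat.card_pos_iff.mp (by omega : 0 < Nat.card X)).1
    have hord : orderOf π = p + 1 := by
      refine Nat.dvd_antisymm (orderOf_dvd_of_pow_eq_one (hper _ dvd_rfl)) ?_
      obtain ⟨w⟩ := ‹Nonempty X›
      exact hfree _ w (by rw [pow_orderOf_eq_one, Equiv.Perm.one_apply])
    have hd : p + 1 ∣ p ^ 2 - p := by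
      rw [← hord, ← Nat.card_zpowers, ← hXc]
      refine dvd_card_of_free fun k w e => ?_
      obtain ⟨i, hi⟩ := (IsOfFinOrder.mem_powers_iff_mem_zpowers (isOfFinOrder_of_finite π)).mpr k.2
      refine Subtype.ext ?_
      show k.1 = 1
      rw [← hi]
      refine hper i (hfree i w ?_)
      rw [show π ^ i = k.1 from hi]
      exact e
    have h4 : p + 1 ∣ p ^ 2 + p := ⟨p, by ring⟩
    have h5 := Nat.dvd_sub h4 hd
    rw [show p ^ 2 + p - (p ^ 2 - p) = 2 * p by omega] at h5
    have h6 := (Nat.Coprime.dvd_mul_right (by simp : Nat.Coprime (p + 1) p)).mp h5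
    have := Nat.le_of_dvd (by omega) h6
    omega
  · obtain ⟨r, hr, hrd, hprim⟩ := Cfsg.Agent.S2904.result p n hy.prime.one_lt (by omega)
      (fun h => hy.p2 h.1) (fun h => by omega)
    obtain ⟨m, hm⟩ := hrd
    have h1 : g ^ m ∉ ker0 U H t := fun e => by
      rw [hy.pow_mem_ker0 hf hv hgH hgen] at e
      have hpos : 0 < p ^ n - 1 := by have := hy.q3; omega
      rcases Nat.eq_zero_or_pos m with rfl | hm0
      · omega
      have := Nat.le_of_dvd hm0 e
      have := hr.two_le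
      nlinarith
    have h2 : g ^ (m * r) ∈ ker0 U H t := by rw [hy.pow_mem_ker0 hf hv hgH hgen, hm, mul_comm]
    obtain ⟨b, -, hb⟩ := hy.exists_cu_pow (g ^ m)
    have hbn := hfull _ (pow_mem hgH m) h1 b hb
    have hrp : ¬ r ∣ p := fun e => by
      have h4 : r ∣ p ^ n := dvd_pow e (by omega)
      have h5 := Nat.dvd_sub h4 (show r ∣ p ^ n - 1 from ⟨m, hm⟩)
      rw [Nat.sub_sub_self (Nat.one_le_pow _ _ hy.prime.pos)] at h5
      exact hr.ne_one (Nat.dvd_one.mp h5)
    haveI := hy.finite_points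
    -- orbits of order `r` on an invariant subgroup
    have hcong : ∀ B : Subgroup G, B ≤ cu U t → (∀ a ∈ B, g * a * g⁻¹ ∈ B) →
        Nat.card B ≡ Nat.card (cu B (g ^ m)) [MOD r] := fun B hB hgB => by
      haveI := Fact.mk hr
      have hconjB : ∀ (i : ℕ) (a : G), a ∈ B → g ^ i * a * (g ^ i)⁻¹ ∈ B := by
        intro i
        induction i with
        | zero => intro a ha; simpa using ha
        | succ i ih => intro a ha; rw [pow_succ', show g * g ^ i * a * (g * g ^ i)⁻¹ = g * (g ^ i * a * (g ^ i)⁻¹) * g⁻¹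
            by group]; exact hgB _ (ih a ha)
      haveI := Fintype.ofFinite B
      let f : Function.End B := fun a => ⟨g ^ m * a * (g ^ m)⁻¹, hconjB m a a.2⟩
      have hfp : ∀ (i : ℕ) (a : B), ((f ^ i) a).1 = g ^ (m * i) * a * (g ^ (m * i))⁻¹ := by
        intro i
        induction i with
        | zero => intro a; rw [pow_zero, mul_zero, pow_zero, one_mul, inv_one, mul_one]; rfl
        | succ i ih =>
          intro a
          rw [pow_succ]
          show ((f ^ i) (f a)).1 = _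
          rw [ih, Nat.mul_succ, pow_add]
          show _ * (g ^ m * (a : G) * (g ^ m)⁻¹) * _ = _
          group
      have hf1 : f ^ r ^ 1 = 1 := funext fun a => Subtype.ext (by
        rw [pow_one, hfp, ← (mem_ker0.mp h2).2 a (hB a.2), mul_inv_cancel_right]; rfl)
      have h := Equiv.Perm.card_fixedPoints_modEq hf1
      rw [← Nat.card_eq_fintype_card, ← Nat.card_eq_fintype_card] at h
      have e : Nat.card (Function.fixedPoints f) = Nat.card (cu B (g ^ m)) := Nat.card_congr
        { toFun := fun a => ⟨a.1.1, mem_cu.mpr ⟨a.1.2, mul_inv_eq_iff_eq_mul.mp (congrArg Subtype.val a.2)⟩⟩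
          invFun := fun a => ⟨⟨a.1, (mem_cu.mp a.2).1⟩, Subtype.ext (mul_inv_eq_iff_eq_mul.mpr (mem_cu.mp a.2).2)⟩
          left_inv := fun _ => rfl
          right_inv := fun _ => rfl }
      rwa [← e]
    have hMg : cu (cu U t) (g ^ m) = cu U (g ^ m) := le_antisymm
      (fun a ha => mem_cu.mpr ⟨(mem_cu.mp (mem_cu.mp ha).1).1, (mem_cu.mp ha).2⟩)
      (fun a ha => mem_cu.mpr ⟨hy.le_M hf (pow_mem hgH m) (fun e => h1 (e ▸ one_mem _)) ha, (mem_cu.mp ha).2⟩)
    have hprim' : ∀ i, 1 ≤ i → i < n → ¬ r ∣ p ^ i - 1 := fun i h1 h2 => hprim i h1 h2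
    have key : ∀ x y : ℕ, x ≤ y → y ≤ n → p ^ y ≡ p ^ x [MOD r] → y = x ∨ y = n ∧ x = 0 := by
      intro x y hxy hyn h
      by_contra hne
      push Not at hne
      refine hprim' (y - x) (by omega) (by omega) ?_
      have hd := (Nat.modEq_iff_dvd' (Nat.pow_le_pow_right hy.prime.pos hxy)).mp h.symm
      rw [show p ^ y - p ^ x = p ^ x * (p ^ (y - x) - 1) by
        rw [Nat.mul_sub, mul_one, ← pow_add, Nat.add_sub_cancel' hxy]] at hd
      exact (hr.dvd_mul.mp hd).resolve_left fun h' => hrp (hr.dvd_of_dvd_pow h')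
    have hM' := hcong (cu U t) le_rfl fun a ha => hy.conj_M hf hgH ha
    rw [hMg, hb, hy.card_M hf] at hM'
    rcases key b n hbn.le le_rfl hM' with e | ⟨-, rfl⟩
    · omega
    have hA' := hcong A hA hgA
    rw [hjc, show cu A (g ^ m) = ⊥ from le_bot_iff.mp fun a ha => by
      have : a ∈ cu U (g ^ m) := mem_cu.mpr ⟨(mem_cu.mp (hA (mem_cu.mp ha).1)).1, (mem_cu.mp ha).2⟩
      rwa [Subgroup.card_eq_one.mp (hb.trans (pow_zero p))] at this, Subgroup.card_bot, ← pow_zero p] at hA'
    rcases key 0 j (Nat.zero_le _) hjn.le hA' with e | ⟨e, -⟩ <;> omega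

/-- The torus modulo the kernel is semiregular on the non-trivial translations. -/
theorem semireg_M {h m : G} (hh : h ∈ H) (hm : m ∈ cu U t) (hm1 : m ≠ 1) (e : h * m = m * h) :
    h ∈ ker0 U H t := by
  set A := cu U t ⊓ Subgroup.centralizer {h} with hA
  rcases hy.irreducible hf hv hgH hgen (A := A) inf_le_left (fun a ha => ⟨hy.conj_M hf hgH ha.1, by
      have h1 : Commute g h := hy.comm_H hgH hh
      have h2 : Commute a h := Subgroup.mem_centralizer_singleton_iff.mp ha.2
      exact Subgroup.mem_centralizer_singleton_iff.mpr (((h1.mul_left h2).mul_left h1.inv_left).eq)⟩) with h1 | h1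
  · exact absurd ((Subgroup.eq_bot_iff_forall _).mp h1 m ⟨hm, Subgroup.mem_centralizer_singleton_iff.mpr e.symm⟩) hm1
  · refine mem_ker0.mpr ⟨hh, fun a ha => ?_⟩
    rw [← h1] at ha
    exact Subgroup.mem_centralizer_singleton_iff.mp ha.2

/-- The translations commute. -/
theorem comm_M {a b : G} (ha : a ∈ cu U t) (hb : b ∈ cu U t) : a * b = b * a := by
  haveI := Fact.mk hy.prime
  set A := cu U t ⊓ Subgroup.centralizer (cu U t : Set G) with hA
  rcases hy.irreducible hf hv hgH hgen (A := A) inf_le_left (fun a ha => ⟨hy.conj_M hf hgH ha.1, by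
      refine Subgroup.mem_centralizer_iff.mpr fun m hm => ?_
      have h' := Subgroup.mem_centralizer_iff.mp ha.2 (g⁻¹ * m * g) (by
        simpa using hy.conj_M hf (inv_mem hgH) hm)
      calc m * (g * a * g⁻¹) = g * (g⁻¹ * m * g * a) * g⁻¹ := by group
        _ = g * (a * (g⁻¹ * m * g)) * g⁻¹ := by rw [h']
        _ = g * a * g⁻¹ * m := by group⟩) with h1 | h1
  · exfalso
    haveI : Nontrivial (cu U t) := Finite.one_lt_card_iff_nontrivial.mp (by
      rw [hy.card_M hf]; have := hy.q3; omega)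
    haveI : Nontrivial (Subgroup.center (cu U t)) := (IsPGroup.of_card (hy.card_M hf)).center_nontrivial
    obtain ⟨⟨⟨w, hw⟩, hwc⟩, hne⟩ := exists_ne (1 : Subgroup.center (cu U t))
    refine hne (Subtype.ext (Subtype.ext ?_))
    exact (Subgroup.eq_bot_iff_forall _).mp h1 w ⟨hw, Subgroup.mem_centralizer_iff.mpr fun m hm =>
      congrArg Subtype.val (Subgroup.mem_center_iff.mp hwc ⟨m, hm⟩)⟩
  · rw [← h1] at ha
    exact (Subgroup.mem_centralizer_iff.mp ha.2 b hb).symm

/-- The translations have exponent `p`. -/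
theorem exp_M {a : G} (ha : a ∈ cu U t) : a ^ p = 1 := by
  haveI := Fact.mk hy.prime
  let A : Subgroup G :=
    { carrier := {m | m ∈ cu U t ∧ m ^ p = 1}
      one_mem' := ⟨one_mem _, one_pow p⟩
      mul_mem' := fun {x y} hx hy' => ⟨mul_mem hx.1 hy'.1, by
        rw [(show Commute x y from hy.comm_M hf hv hgH hgen hx.1 hy'.1).mul_pow, hx.2, hy'.2, one_mul]⟩
      inv_mem' := fun {x} hx => ⟨inv_mem hx.1, by rw [inv_pow, hx.2, inv_one]⟩ }
  rcases hy.irreducible hf hv hgH hgen (A := A) (fun m hm => hm.1) (fun m hm => ⟨hy.conj_M hf hgH hm.1, by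
      rw [conj_pow, hm.2, mul_one, mul_inv_cancel]⟩) with h1 | h1
  · exfalso
    obtain ⟨⟨w, hw⟩, hwo⟩ := exists_prime_orderOf_dvd_card' (G := cu U t) p (by
      rw [hy.card_M hf]; exact dvd_pow_self p (by have := hy.n1; omega))
    rw [Subgroup.orderOf_mk] at hwo
    have := (Subgroup.eq_bot_iff_forall _).mp h1 w ⟨hw, hwo ▸ pow_orderOf_eq_one w⟩
    rw [this, orderOf_one] at hwo
    exact hy.prime.ne_one hwo.symm
  · exact (show a ∈ A from h1.symm ▸ ha).2

end Hyp

end CfsgLib.U3BN
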